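import Groth.Agent.FlatMorGeomIrr.CountOne
import Groth.Agent.H8Lim.ApproxFP
import Groth.Agent.H8Lim.ClosedIntoStage
import Groth.Agent.H8Lim.BaseChange
import Groth.Agent.H8Lim.Constructible
import Groth.Agent.H8Top.Noetherian
import Groth.Agent.H8Top.General

/-! The loci of given numbers of geometric components are locally constructible. -/

universe u

open AlgebraicGeometry CategoryTheory Limits Opposite

namespace Groth.Agent.FlatMorGeomIrr

set_option backward.isDefEq.respectTransparency false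

/-- A finitely presented morphism sits as a closed subscheme, with model closed set, inside the
base change of a morphism of Noetherian schemes. -/
theorem exists_closed_model {X S : Scheme.{u}} (f : X ⟶ S) [LocallyOfFinitePresentation f]
    [QuasiCompact f] [QuasiSeparated f] [CompactSpace S] [QuasiSeparatedSpace S] :
    ∃ (X₀ S₀ : Scheme.{u}) (f₀ : X₀ ⟶ S₀) (g : S ⟶ S₀) (T₀ : Set X₀) (j : X ⟶ pullback f₀ g),
      IsLocallyNoetherian S₀ ∧ CompactSpace S₀ ∧ LocallyOfFiniteType f₀ ∧ QuasiCompact f₀ ∧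
      IsClosed T₀ ∧ IsClosedImmersion j ∧ j ≫ pullback.snd f₀ g = f ∧
      Set.range j = pullback.fst f₀ g ⁻¹' T₀ := by
  haveI : CompactSpace X := QuasiCompact.compactSpace_of_compactSpace f
  haveI : QuasiSeparatedSpace X := quasiSeparatedSpace_of_quasiSeparated f
  obtain ⟨X₁, Y₁, a, b, f₁, w, ha, hb, hc, hc', hqs, hN, hlft, -⟩ := H8Lim.exists_int_model_hom f
  haveI : QuasiSeparatedSpace X₁ := inferInstance
  let D := H8Lim.PairModel.overDiagram a b f f₁ w
  let c := H8Lim.PairModel.overCone a b f f₁ w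
  obtain ⟨hlim⟩ := H8Lim.PairModel.isLimit_overCone a b f f₁ w
  let E := D ⋙ Over.forget S
  haveI : IsConnected (H8Lim.PairModel a b f f₁ w)ᵒᵖ := IsCofiltered.isConnected _
  let cE : Cone E := (Over.forget S).mapCone c
  have hE : IsLimit cE := isLimitOfPreserves (Over.forget S) hlim
  haveI : ∀ {i j : (H8Lim.PairModel a b f f₁ w)ᵒᵖ} (g : i ⟶ j), IsAffineHom (E.map g) := fun g =>
    MorphismProperty.of_postcomp (W := @IsAffineHom) (W' := @IsSeparated) _
      (pullback.fst _ _)
      (MorphismProperty.pullback_fst (P := @IsSeparated) _ _ inferInstance)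
      (by
        show IsAffineHom (H8Lim.PairModel.overMap a b f f₁ w g ≫ pullback.fst _ _)
        rw [H8Lim.PairModel.overMap_fst]
        haveI : IsAffineHom (H8Lim.PairModel.srcMap a b f f₁ w g) :=
          inferInstanceAs (IsAffineHom ((H8Lim.PairModel.srcDiagram a b f f₁ w).map g))
        exact MorphismProperty.comp_mem @IsAffineHom _ _
          (MorphismProperty.pullback_fst (P := @IsAffineHom) _ _ inferInstance) inferInstance)
  haveI : ∀ i, CompactSpace (E.obj i) := fun i => by
    haveI := (H8Lim.PairModel.overHom_props a b f f₁ w i.unop).2.1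
    exact QuasiCompact.compactSpace_of_compactSpace (H8Lim.PairModel.overHom a b f f₁ w i.unop)
  let t : E ⟶ (Functor.const _).obj S :=
    { app := fun i => (D.obj i).hom
      naturality := fun i j g => (Over.w (D.map g)).trans (Category.comp_id _).symm }
  obtain ⟨i₀⟩ := IsCofiltered.nonempty (C := (H8Lim.PairModel a b f f₁ w)ᵒᵖ)
  let idX : X ⟶ cE.pt := 𝟙 X
  haveI : IsClosedImmersion idX := inferInstanceAs (IsClosedImmersion (𝟙 X))
  haveI : LocallyOfFiniteType ((idX ≫ cE.π.app i₀) ≫ t.app i₀) := by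
    show LocallyOfFiniteType ((𝟙 X ≫ H8Lim.PairModel.overLift a b f f₁ w i₀.unop) ≫
      H8Lim.PairModel.overHom a b f f₁ w i₀.unop)
    rw [Category.id_comp, H8Lim.PairModel.overLift_hom]
    infer_instance
  obtain ⟨i, hi⟩ := H8Lim.exists_isClosedImmersion_comp_π hE t idX i₀
  let p := i.unop
  let j₀ := H8Lim.PairModel.overLift a b f f₁ w p
  haveI hj₀ : IsClosedImmersion j₀ := by
    have : idX ≫ cE.π.app i = j₀ := Category.id_comp _
    rwa [this] at hi
  obtain ⟨hp1, hp2, hp3⟩ := H8Lim.PairModel.overHom_props a b f f₁ w p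
  haveI : LocallyOfFinitePresentation j₀ := by
    haveI : LocallyOfFinitePresentation (j₀ ≫ H8Lim.PairModel.overHom a b f f₁ w p) := by
      rw [H8Lim.PairModel.overLift_hom]; infer_instance
    haveI := hp1
    exact H8Lim.lfp_cancel_right j₀ (H8Lim.PairModel.overHom a b f f₁ w p)
  haveI : CompactSpace ↥(pullback p.compat.hom p.G.toModel) :=
    QuasiCompact.compactSpace_of_compactSpace (H8Lim.PairModel.overHom a b f f₁ w p)
  haveI : QuasiSeparatedSpace ↥(pullback p.compat.hom p.G.toModel) :=
    quasiSeparatedSpace_of_quasiSeparated (H8Lim.PairModel.overHom a b f f₁ w p)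
  have hconstr : Topology.IsConstructible (Set.range j₀) := by
    rw [← Set.image_univ]
    exact (j₀.isLocallyConstructible_image Topology.IsConstructible.univ.isLocallyConstructible).isConstructible
  have hU : IsCompact ((Set.range j₀)ᶜ) :=
    H8Lim.isCompact_of_isLocallyConstructible hconstr.compl.isLocallyConstructible
  -- the stages over the models of the base
  obtain ⟨hG⟩ := H8Lim.PairModel.isLimit_tgtCone a b f f₁ w
  let G := H8Lim.PairModel.tgtDiagram a b f f₁ w
  let cG := H8Lim.PairModel.tgtCone a b f f₁ w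
  let f₀ : p.F.alg.spec ⟶ G.obj i := p.compat.hom
  haveI hflp := H8Lim.PairModel.locallyOfFinitePresentation_hom a b f f₁ w p
  haveI hfqc := (H8Lim.PairModel.quasiCompact_quasiSeparated_hom a b f f₁ w p).1
  haveI hfqs := (H8Lim.PairModel.quasiCompact_quasiSeparated_hom a b f f₁ w p).2
  let P := pullback p.compat.hom p.G.toModel
  have sq : IsPullback (pullback.fst p.compat.hom p.G.toModel) (pullback.snd p.compat.hom p.G.toModel)
      f₀ (cG.π.app i) := IsPullback.of_hasPullback _ _
  let cS := H8Lim.stageCone f₀ cG _ _ sq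
  let hS := H8Lim.isLimitStageCone f₀ _ _ sq hG
  haveI : CompactSpace p.F.alg.spec := by
    haveI : IsAffineHom p.F.alg.π := p.F.alg.isAffineHom_π
    exact QuasiCompact.compactSpace_of_compactSpace p.F.alg.π
  obtain ⟨k, -, V, -, hV⟩ := H8Lim.exists_opens_eq_over hS (Over.mk (𝟙 i))
    ⟨(Set.range j₀)ᶜ, j₀.isClosedEmbedding.isClosed_range.isOpen_compl⟩ hU
  let X₀ := pullback f₀ (G.map k.hom)
  let g : S ⟶ G.obj k.left := cG.π.app k.left
  let V₀ : X₀.Opens := V
  have hsq : IsPullback (H8Lim.stageProj f₀ cG _ _ sq k) (pullback.snd p.compat.hom p.G.toModel)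
      (pullback.snd f₀ (G.map k.hom)) g :=
      IsPullback.of_right (h₁₂ := pullback.fst f₀ (G.map k.hom)) (v₁₂ := pullback.snd f₀ (G.map k.hom))
        (v₁₃ := f₀) (h₂₂ := G.map k.hom)
        (h₁₁ := H8Lim.stageProj f₀ cG _ _ sq k) (v₁₁ := pullback.snd p.compat.hom p.G.toModel)
        (h₂₁ := g)
        (by
          rw [show H8Lim.stageProj f₀ cG _ _ sq k ≫ pullback.fst f₀ (G.map k.hom) =
            pullback.fst p.compat.hom p.G.toModel from H8Lim.stageProj_fst f₀ cG _ _ sq k, cG.w k.hom]
          exact sq)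
        (H8Lim.stageProj_snd f₀ cG _ _ sq k) (IsPullback.of_hasPullback _ _)
  let e : pullback (pullback.snd f₀ (G.map k.hom)) g ≅ P := hsq.isoPullback.symm
  haveI := H8Lim.PairModel.isLocallyNoetherian_tgt a b f f₁ w k.left.unop
  haveI hcmp : CompactSpace (G.obj k.left) := by
    haveI : IsAffineHom k.left.unop.G.alg.π := k.left.unop.G.alg.isAffineHom_π
    exact QuasiCompact.compactSpace_of_compactSpace k.left.unop.G.alg.π
  refine ⟨X₀, G.obj k.left, pullback.snd f₀ (G.map k.hom), g, (V₀ : Set X₀)ᶜ, j₀ ≫ e.inv,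
    inferInstanceAs (IsLocallyNoetherian k.left.unop.G.alg.spec), hcmp,
    MorphismProperty.pullback_snd (P := @LocallyOfFiniteType) _ _ inferInstance,
    MorphismProperty.pullback_snd (P := @QuasiCompact) _ _ inferInstance,
    V₀.isOpen.isClosed_compl, inferInstance, ?_, ?_⟩
  · show (j₀ ≫ hsq.isoPullback.hom) ≫ _ = f
    rw [Category.assoc, IsPullback.isoPullback_hom_snd]
    exact H8Lim.PairModel.overLift_hom a b f f₁ w p
  · have h1 : H8Lim.stageProj f₀ cG _ _ sq k ⁻¹' (V₀ : Set X₀) = (Set.range j₀)ᶜ :=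
      congrArg (fun U : P.Opens => (U : Set P)) hV
    ext x
    have hx : pullback.fst (pullback.snd f₀ (G.map k.hom)) g x =
        H8Lim.stageProj f₀ cG _ _ sq k (e.hom x) := by
      rw [← Scheme.Hom.comp_apply]
      congr 2
      exact congrArg (fun m => m.base) hsq.isoPullback_inv_fst.symm
    show x ∈ Set.range (j₀ ≫ e.inv) ↔ pullback.fst (pullback.snd f₀ (G.map k.hom)) g x ∉ V₀
    rw [hx]
    have : e.hom x ∈ Set.range j₀ ↔ x ∈ Set.range (j₀ ≫ e.inv) := by
      constructor
      · rintro ⟨y, hy⟩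
        refine ⟨y, ?_⟩
        rw [Scheme.Hom.comp_apply, hy, ← Scheme.Hom.comp_apply, e.hom_inv_id]
        rfl
      · rintro ⟨y, rfl⟩
        refine ⟨y, ?_⟩
        rw [← Scheme.Hom.comp_apply, Category.assoc, e.inv_hom_id, Category.comp_id]
    rw [← this]
    constructor
    · intro h hV'
      exact (h1.le hV') h
    · intro h
      by_contra h'
      exact h (h1.ge h')

theorem range_preimage_closed {X Y S Z : Scheme.{u}} (i : Z ⟶ X) [IsClosedImmersion i]
    (f : X ⟶ Y) (s : S ⟶ Y) :
    Nonempty (↥(pullback (i ≫ f) s) ≃ₜ (pullback.fst f s ⁻¹' Set.range i : Set ↥(pullback f s))) := by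
  let i' : pullback (i ≫ f) s ⟶ pullback f s :=
    pullback.lift (pullback.fst _ _ ≫ i) (pullback.snd _ _) (by rw [Category.assoc, pullback.condition])
  have hsq : IsPullback i' (pullback.fst (i ≫ f) s) (pullback.fst f s) i := by
    refine IsPullback.of_right ?_ (pullback.lift_fst _ _ _) (IsPullback.of_hasPullback f s).flip
    rw [pullback.lift_snd]
    exact (IsPullback.of_hasPullback (i ≫ f) s).flip
  haveI : IsClosedImmersion i' :=
    MorphismProperty.of_isPullback (P := @IsClosedImmersion) hsq.flip inferInstance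
  have hr : Set.range i' = pullback.fst f s ⁻¹' Set.range i := by
    rw [← hsq.isoPullback_hom_fst, Scheme.Hom.comp_base, TopCat.coe_comp, Set.range_comp,
      Set.range_eq_univ.2 (show Function.Surjective hsq.isoPullback.hom from
        hsq.isoPullback.hom.homeomorph.surjective), Set.image_univ, Scheme.Pullback.range_fst]
  exact ⟨i'.isEmbedding.toHomeomorph.trans (Homeomorph.setCongr hr)⟩

theorem counts_eq_of_homeomorph {α β : Type u} [TopologicalSpace α] [TopologicalSpace β] (e : α ≃ₜ β) :
    (irreducibleComponents α).encard = (irreducibleComponents β).encard ∧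
      ENat.card (_root_.ConnectedComponents α) = ENat.card (_root_.ConnectedComponents β) :=
  counts_eq_of_open e e.continuous e.isOpenMap e.surjective fun b => by
    rw [← congrFun (Homeomorph.image_symm e) {b}, Set.image_singleton]
    exact isIrreducible_singleton

/-- The counts may be computed on the closed set of the model. -/
theorem counts_eq_model {X S X₀ S₀ : Scheme.{u}} (f : X ⟶ S) (f₀ : X₀ ⟶ S₀) (g : S ⟶ S₀)
    {T₀ : Set X₀} (hT₀ : IsClosed T₀) (j : X ⟶ pullback f₀ g) [IsClosedImmersion j]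
    (hj : j ≫ pullback.snd f₀ g = f) (hr : Set.range j = pullback.fst f₀ g ⁻¹' T₀) (y : S) :
    MoreMor.nGeomIrredComp f y = MoreMor.nGeomIrredComp (redι hT₀ ≫ f₀) (g y) ∧
      MoreMor.nGeomConnComp f y = MoreMor.nGeomConnComp (redι hT₀ ≫ f₀) (g y) := by
  obtain ⟨Ω, _, _, s, z, hs⟩ := exists_algClosed_point y
  have h1 := counts_eq_geomFiber f s z hs
  have h2 := counts_eq_geomFiber (redι hT₀ ≫ f₀) (s ≫ g) z (y := g y) (by
    rw [Scheme.Hom.comp_apply, hs])
  subst hj
  obtain ⟨e1⟩ := range_preimage_closed j (pullback.snd f₀ g) s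
  obtain ⟨e2⟩ := range_preimage_closed (redι hT₀) f₀ (s ≫ g)
  have sq := (IsPullback.of_hasPullback (pullback.snd f₀ g) s).paste_horiz (IsPullback.of_hasPullback f₀ g)
  let e := sq.isoPullback.hom.homeomorph
  have he : e ⁻¹' (pullback.fst f₀ (s ≫ g) ⁻¹' Set.range (redι hT₀)) =
      pullback.fst (pullback.snd f₀ g) s ⁻¹' Set.range j := by
    rw [range_redι, hr]
    ext w
    show pullback.fst f₀ (s ≫ g) (sq.isoPullback.hom w) ∈ T₀ ↔ _
    rw [← Scheme.Hom.comp_apply, sq.isoPullback_hom_fst]
    rfl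
  have he' := counts_eq_of_homeomorph
    (e1.trans ((Homeomorph.setCongr he.symm).trans ((e.sets rfl).trans e2.symm)))
  exact ⟨h1.1.symm.trans (he'.1.trans h2.1), h1.2.symm.trans (he'.2.trans h2.2)⟩

/-- A level set of a count which is locally constant on point closures is constructible. -/
theorem isConstructible_levelSet {S : Scheme.{u}} [IsLocallyNoetherian S] [CompactSpace S]
    {β : Type*} (N : S → β) (n : β)
    (h : ∀ y : S, ∃ V : Set S, V ⊆ closure {y} ∧ y ∈ V ∧
      IsOpen (Subtype.val ⁻¹' V : Set ↑(closure ({y} : Set S))) ∧ ∀ y' ∈ V, N y' = N y) :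
    Topology.IsConstructible {y | N y = n} := by
  haveI : IsNoetherian S := {}
  refine (H8Top.isConstructible_iff_forall_irreducible_closed _).2 fun Z hZ hZi => ?_
  obtain ⟨η, hη⟩ := QuasiSober.sober hZi hZ
  have hcl : closure {η} = Z := hη
  obtain ⟨V, hVsub, hηV, hV, hN⟩ := h η
  obtain ⟨U, hU, hUV⟩ := isOpen_induced_iff.1 hV
  have hmem : ∀ w ∈ U, w ∈ Z → w ∈ V := fun w hwU hwZ =>
    hUV.le (show (⟨w, hcl ▸ hwZ⟩ : ↑(closure ({η} : Set S))) ∈ Subtype.val ⁻¹' U from hwU)
  have hηU : η ∈ U := hUV.ge (show (⟨η, subset_closure rfl⟩ : ↑(closure ({η} : Set S))) ∈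
    Subtype.val ⁻¹' V from hηV)
  by_cases hn : N η = n
  · refine Or.inr ⟨U, hU, ⟨η, hηU, hcl ▸ subset_closure rfl⟩, fun w hw => ?_⟩
    exact (hN w (hmem w hw.1 hw.2)).trans hn
  · refine Or.inl ?_
    have hsub : closure (Subtype.val ⁻¹' {y | N y = n} : Set Z) ⊆ (Subtype.val ⁻¹' U)ᶜ :=
      closure_minimal (fun w hw hwU => hn ((hN w (hmem w hwU w.2)).symm.trans hw))
        (hU.preimage continuous_subtype_val).isClosed_compl
    refine Set.eq_empty_of_subset_empty fun w hw => ?_
    obtain ⟨O, hOsub, hO, hwO⟩ := mem_interior.1 hw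
    obtain ⟨O', hO', rfl⟩ := isOpen_induced_iff.1 hO
    have hηO : η ∈ O' := (hη.specializes w.2).mem_open hO' hwO
    exact hsub (hOsub (show (⟨η, hcl ▸ subset_closure rfl⟩ : Z) ∈ Subtype.val ⁻¹' O' from hηO)) hηU

theorem isConstructible_preimage_levelSet {S S₀ : Scheme.{u}} (g : S ⟶ S₀) {E : Set S₀}
    (hE : Topology.IsConstructible E) [CompactSpace S] [QuasiSeparatedSpace S] :
    Topology.IsConstructible (g ⁻¹' E) :=
  (H8Lim.isLocallyConstructible_preimage g hE.isLocallyConstructible).isConstructible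

/-- Both level sets are locally constructible. -/
theorem isLocallyConstructible_counts {X Y : Scheme.{u}} (f : X ⟶ Y) [LocallyOfFinitePresentation f]
    [QuasiCompact f] [QuasiSeparated f] (n : ℕ∞) :
    Topology.IsLocallyConstructible {y : ↑Y | MoreMor.nGeomIrredComp f y = n} ∧
      Topology.IsLocallyConstructible {y : ↑Y | MoreMor.nGeomConnComp f y = n} := by
  have key : ∀ U : Y.Opens, IsAffineOpen U →
      Topology.IsConstructible (U.ι ⁻¹' {y : ↑Y | MoreMor.nGeomIrredComp f y = n} : Set U.toScheme) ∧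
      Topology.IsConstructible (U.ι ⁻¹' {y : ↑Y | MoreMor.nGeomConnComp f y = n} : Set U.toScheme) := by
    intro U hU
    haveI : IsAffine U.toScheme := hU
    let fU := f ∣_ U
    have hb := (isPullback_morphismRestrict f U).flip
    obtain ⟨X₀, S₀, f₀, g, T₀, j, hN, hC, hft, hqc, hT₀, hj, hjf, hr⟩ := exists_closed_model fU
    haveI := hN; haveI := hC; haveI := hft; haveI := hqc; haveI := hj
    have hbase := fun y => exists_counts_const_near (redι hT₀ ≫ f₀) y
    constructor
    · have h0 := isConstructible_levelSet (fun y => MoreMor.nGeomIrredComp (redι hT₀ ≫ f₀) y) n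
        fun y => by
          obtain ⟨V, h1, h2, h3, h4⟩ := hbase y
          exact ⟨V, h1, h2, h3, fun y' hy' => (h4 y' hy').1⟩
      convert isConstructible_preimage_levelSet g h0 using 1
      ext y
      show MoreMor.nGeomIrredComp f (U.ι y) = n ↔ _
      rw [← (counts_baseChange f fU _ U.ι hb y).1, (counts_eq_model fU f₀ g hT₀ j hjf hr y).1]
      rfl
    · have h0 := isConstructible_levelSet (fun y => MoreMor.nGeomConnComp (redι hT₀ ≫ f₀) y) n
        fun y => by
          obtain ⟨V, h1, h2, h3, h4⟩ := hbase y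
          exact ⟨V, h1, h2, h3, fun y' hy' => (h4 y' hy').2⟩
      convert isConstructible_preimage_levelSet g h0 using 1
      ext y
      show MoreMor.nGeomConnComp f (U.ι y) = n ↔ _
      rw [← (counts_baseChange f fU _ U.ι hb y).2, (counts_eq_model fU f₀ g hT₀ j hjf hr y).2]
      rfl
  constructor <;> intro y <;>
    obtain ⟨U, hU, hy, -⟩ := exists_isAffineOpen_mem_and_subset (X := Y) (x := y) (U := ⊤) trivial
  · exact ⟨(U : Set Y), U.2.mem_nhds hy, U.2, (key U hU).1⟩
  · exact ⟨(U : Set Y), U.2.mem_nhds hy, U.2, (key U hU).2⟩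

end Groth.Agent.FlatMorGeomIrr
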