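import Groth.Agent.FlatMorGeomIrr.Components

/-! Geometrically irreducible / connected fibres are those with count one. -/

universe u

open AlgebraicGeometry CategoryTheory Limits

namespace Groth.Agent.FlatMorGeomIrr

set_option backward.isDefEq.respectTransparency false

theorem connectedSpace_iff_card_eq_one {α : Type u} [TopologicalSpace α] :
    ConnectedSpace α ↔ ENat.card (_root_.ConnectedComponents α) = 1 := by
  rw [ENat.card_eq_one_iff_unique]
  constructor
  · intro h
    haveI : Nonempty α := inferInstance
    exact nonempty_unique _
  · rintro ⟨u⟩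
    obtain ⟨x⟩ := _root_.ConnectedComponents.nonempty_iff_nonempty.1 ⟨u.default⟩
    haveI := u
    refine connectedSpace_iff_univ.2 ?_
    have : connectedComponent x = Set.univ := Set.eq_univ_of_forall fun y =>
      _root_.ConnectedComponents.coe_eq_coe'.1 (Subsingleton.elim _ _)
    rw [← this]
    exact isConnected_connectedComponent

theorem irreducibleSpace_iff_encard_eq_one {α : Type u} [TopologicalSpace α] :
    IrreducibleSpace α ↔ (irreducibleComponents α).encard = 1 := by
  constructor
  · intro h
    rw [irreducibleComponents_eq_singleton, Set.encard_singleton]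
  · intro h
    obtain ⟨T, hT⟩ := Set.encard_eq_one.1 h
    have hTm : T ∈ irreducibleComponents α := hT ▸ Set.mem_singleton T
    have : T = Set.univ := Set.eq_univ_of_forall fun x => by
      have hx := irreducibleComponent_mem_irreducibleComponents x
      rw [hT, Set.mem_singleton_iff] at hx
      exact hx ▸ mem_irreducibleComponent
    rw [irreducibleSpace_def, Set.top_eq_univ, ← this]
    exact hTm.1

theorem geometricallyIrreducible_iff_count {X Y : Scheme.{u}} (f : X ⟶ Y) (y : Y) :
    GeometricallyIrreducible (f.fiberToSpecResidueField y) ↔ MoreMor.nGeomIrredComp f y = 1 := by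
  obtain ⟨Ω, _, _, s, z, hs⟩ := exists_algClosed_point y
  rw [geometricallyIrreducible_fiber_iff_of_isSepClosed f y s z hs,
    ← (counts_eq_geomFiber f s z hs).1, irreducibleSpace_iff_encard_eq_one]

theorem geometricallyConnected_iff_count {X Y : Scheme.{u}} (f : X ⟶ Y) (y : Y) :
    GeometricallyConnected (f.fiberToSpecResidueField y) ↔ MoreMor.nGeomConnComp f y = 1 := by
  constructor
  · intro h
    exact connectedSpace_iff_card_eq_one.1 (pullback_of_geometrically h.geometrically_connectedSpace
      (SeparableClosure (Y.residueField y)) _)
  · intro h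
    refine ⟨geometrically_iff_of_isClosedUnderIsomorphisms.2 fun K _ x => ?_⟩
    let Ω := AlgebraicClosure K
    let θ : Spec (CommRingCat.of Ω) ⟶ Spec (CommRingCat.of K) :=
      Spec.map (CommRingCat.ofHom (algebraMap K Ω))
    haveI : Surjective θ := ⟨fun _ => ⟨(⟨⊥, Ideal.isPrime_bot⟩ : PrimeSpectrum Ω),
      Subsingleton.elim (α := PrimeSpectrum K) _ _⟩⟩
    let s := θ ≫ x ≫ Y.fromSpecResidueField y
    let z : Spec (CommRingCat.of Ω) := (⟨⊥, Ideal.isPrime_bot⟩ : PrimeSpectrum Ω)
    have hsz : s z = y := by
      simp only [s, Scheme.Hom.comp_apply]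
      exact Scheme.fromSpecResidueField_apply _ _
    haveI : ConnectedSpace ↥(pullback f s) :=
      connectedSpace_iff_card_eq_one.2 ((counts_eq_geomFiber f s z hsz).2.trans h)
    let e := pullbackLeftPullbackSndIso f (Y.fromSpecResidueField y) x
    have hsq : IsPullback (pullback.fst f (x ≫ Y.fromSpecResidueField y))
        (pullback.snd f (x ≫ Y.fromSpecResidueField y)) f (x ≫ Y.fromSpecResidueField y) :=
      IsPullback.of_hasPullback _ _
    let q : pullback f s ⟶ pullback f (x ≫ Y.fromSpecResidueField y) :=
      pullback.lift (pullback.fst f s) (pullback.snd f s ≫ θ)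
        (by rw [pullback.condition, Category.assoc])
    have hq : IsPullback q (pullback.snd f s) (pullback.snd f (x ≫ Y.fromSpecResidueField y)) θ := by
      refine IsPullback.of_right ?_ (pullback.lift_snd _ _ _) hsq
      rw [pullback.lift_fst]
      exact IsPullback.of_hasPullback f s
    haveI : Surjective q := MorphismProperty.of_isPullback (P := @Surjective) hq.flip inferInstance
    haveI := FlatMor12.connectedSpace_of_surjective q
    haveI : ConnectedSpace ↥(pullback (f.fiberToSpecResidueField y) x) :=
      e.inv.homeomorph.surjective.connectedSpace e.inv.homeomorph.continuous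
    infer_instance

end Groth.Agent.FlatMorGeomIrr
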