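import Groth.Agent.FlatMorGeomIrr.Spread
import Groth.Agent.VarietyLib.GeomField
import Groth.Agent.FlatMor12.GeomDescent
import Groth.Agent.Desc19.Topology

/-! Geometric irreducibility of fibres, tested at algebraically closed points. -/

universe u

open AlgebraicGeometry CategoryTheory Limits
open scoped TensorProduct

namespace Groth.Agent.FlatMorGeomIrr

set_option backward.isDefEq.respectTransparency false

theorem universallyOpen_of_field {X : Scheme.{u}} {k : Type u} [Field k]
    (p : X ⟶ Spec (CommRingCat.of k)) : UniversallyOpen p :=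
  haveI : Subsingleton ↥(Spec (CommRingCat.of k)) :=
    inferInstanceAs (Subsingleton (PrimeSpectrum k))
  Desc19.universallyOpen_of_subsingleton p

/-- Over a separably closed field, irreducible implies geometrically irreducible. -/
theorem geometricallyIrreducible_of_isSepClosed {Ω : Type u} [Field Ω] [IsSepClosed Ω] {X : Scheme.{u}}
    (p : X ⟶ Spec (CommRingCat.of Ω)) [IrreducibleSpace X] : GeometricallyIrreducible p := by
  refine ⟨geometrically_iff_of_commRing_of_isClosedUnderIsomorphisms.2 fun K _ _ => ?_⟩
  haveI := VarietyLib.geometricallyIrreducible_algSpec Ω K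
  haveI := universallyOpen_of_field (Spec.map (CommRingCat.ofHom (algebraMap Ω K)))
  infer_instance

theorem geometricallyIrreducible_fiber_iff_of_isSepClosed {X Y : Scheme.{u}} (f : X ⟶ Y) (y : Y)
    {Ω : Type u} [Field Ω] [IsSepClosed Ω] (s : Spec (CommRingCat.of Ω) ⟶ Y) (z : Spec (CommRingCat.of Ω))
    (hs : s z = y) :
    GeometricallyIrreducible (f.fiberToSpecResidueField y) ↔ IrreducibleSpace ↥(pullback f s) := by
  subst hs
  rw [← FlatMor12.fibre_irreducible_iff (IsPullback.of_hasPullback f s) z]
  constructor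
  · intro h
    haveI : GeometricallyIrreducible (pullback.snd f s) := by
      rw [GeometricallyIrreducible.iff_geometricallyIrreducible_fiber]
      intro z'
      rwa [Subsingleton.elim (α := PrimeSpectrum Ω) z' z]
    exact GeometricallyIrreducible.irreducibleSpace_of_subsingleton (f := pullback.snd f s)
      (S := Spec (CommRingCat.of Ω))
  · intro h
    haveI := geometricallyIrreducible_of_isSepClosed (pullback.snd f s)
    exact (GeometricallyIrreducible.iff_geometricallyIrreducible_fiber _).1 inferInstance z

theorem exists_algClosed_point_of_field {Y : Scheme.{u}} (y : Y) (k : Type u) [Field k]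
    (t : Spec (CommRingCat.of k) ⟶ Y) (ht : ∀ z, t z = y) :
    ∃ (Ω : Type u) (_ : Field Ω) (_ : IsAlgClosed Ω) (s : Spec (CommRingCat.of Ω) ⟶ Y)
      (z : Spec (CommRingCat.of Ω)), s z = y :=
  ⟨AlgebraicClosure k, inferInstance, inferInstance,
    Spec.map (CommRingCat.ofHom (algebraMap k (AlgebraicClosure k))) ≫ t,
    (⟨⊥, Ideal.isPrime_bot⟩ : PrimeSpectrum (AlgebraicClosure k)), ht _⟩

theorem exists_algClosed_point {Y : Scheme.{u}} (y : Y) :
    ∃ (Ω : Type u) (_ : Field Ω) (_ : IsAlgClosed Ω) (s : Spec (CommRingCat.of Ω) ⟶ Y)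
      (z : Spec (CommRingCat.of Ω)), s z = y :=
  exists_algClosed_point_of_field y (Y.residueField y) (Y.fromSpecResidueField y)
    fun _ => Scheme.fromSpecResidueField_apply _ _

theorem irreducibleSpace_iff_of_surjective {R S : Type u} [CommRing R] [CommRing S] (φ : R →+* S)
    (hφ : Function.Surjective φ) :
    IrreducibleSpace (PrimeSpectrum S) ↔ (RingHom.ker φ).radical.IsPrime := by
  rw [← PrimeSpectrum.isIrreducible_zeroLocus_iff, ← range_comap_of_surjective _ _ hφ]
  have he := (PrimeSpectrum.isClosedEmbedding_comap_of_surjective _ φ hφ).isEmbedding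
  constructor
  · intro h
    rw [← Set.image_univ]
    exact (IrreducibleSpace.isIrreducible_univ _).image _ he.continuous.continuousOn
  · intro h
    haveI := Subtype.irreducibleSpace h
    exact he.toHomeomorph.symm.surjective.irreducibleSpace he.toHomeomorph.symm.continuous

theorem irreducibleSpace_primeSpectrum_quotient_iff {R : Type u} [CommRing R] (J : Ideal R) :
    IrreducibleSpace (PrimeSpectrum (R ⧸ J)) ↔ J.radical.IsPrime := by
  rw [irreducibleSpace_iff_of_surjective _ Ideal.Quotient.mk_surjective, Ideal.mk_ker]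

theorem irreducibleSpace_pullback_Spec_iff {A B κ : Type u} [CommRing A] [CommRing B] [CommRing κ]
    [Algebra A B] [Algebra A κ] {σ : Type} (π : MvPolynomial σ A →ₐ[A] B) (hπ : Function.Surjective π) :
    IrreducibleSpace ↥(pullback (Spec.map (CommRingCat.ofHom (algebraMap A B)))
      (Spec.map (CommRingCat.ofHom (algebraMap A κ)))) ↔
      (extIdeal κ (RingHom.ker π)).radical.IsPrime := by
  rw [← irreducibleSpace_primeSpectrum_quotient_iff,
    (pullbackSpecIso A B κ).hom.homeomorph.irreducibleSpace_iff]
  let e : B ⊗[A] κ ≃+* MvPolynomial σ κ ⧸ extIdeal κ (RingHom.ker π) :=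
    (Algebra.TensorProduct.comm A B κ).toRingEquiv.trans
      ((Algebra.TensorProduct.congr (AlgEquiv.refl : κ ≃ₐ[A] κ)
        (Ideal.quotientKerAlgEquivOfSurjective hπ).symm).toRingEquiv.trans
          (quotBC κ (RingHom.ker π)).toRingEquiv)
  exact (PrimeSpectrum.homeomorphOfRingEquiv e).irreducibleSpace_iff

theorem exists_algClosed_ker_aux {A : Type u} [CommRing A] (k : Type u) [Field k] (φ : A →+* k) :
    ∃ (κ : Type u) (_ : Field κ) (_ : IsAlgClosed κ) (_ : Algebra A κ),
      RingHom.ker (algebraMap A κ) = RingHom.ker φ :=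
  ⟨AlgebraicClosure k, inferInstance, inferInstance,
    ((algebraMap k (AlgebraicClosure k)).comp φ).toAlgebra,
    RingHom.ker_comp_of_injective φ (algebraMap k (AlgebraicClosure k)).injective⟩

theorem exists_algClosed_ker {A : Type u} [CommRing A] (p : Ideal A) [p.IsPrime] :
    ∃ (κ : Type u) (_ : Field κ) (_ : IsAlgClosed κ) (_ : Algebra A κ),
      RingHom.ker (algebraMap A κ) = p := by
  obtain ⟨κ, i1, i2, i3, h⟩ := exists_algClosed_ker_aux p.ResidueField (algebraMap A p.ResidueField)
  exact ⟨κ, i1, i2, i3, h.trans (Ideal.ker_algebraMap_residueField _)⟩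

/-- Spreading geometric irreducibility, affine version. -/
theorem exists_forall_geometricallyIrreducible_affine {A : Type u} [CommRing A] [IsDomain A]
    {B : Type u} [CommRing B] [Algebra A B] [Algebra.FiniteType A B] (η : Spec (CommRingCat.of A))
    (hη : η.asIdeal = ⊥)
    (h : GeometricallyIrreducible ((Spec.map (CommRingCat.ofHom (algebraMap A B))).fiberToSpecResidueField η)) :
    ∃ a : A, a ≠ 0 ∧ ∀ p : Spec (CommRingCat.of A), a ∉ p.asIdeal →
      GeometricallyIrreducible ((Spec.map (CommRingCat.ofHom (algebraMap A B))).fiberToSpecResidueField p) := by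
  obtain ⟨n, π, hπ⟩ := Algebra.FiniteType.iff_quotient_mvPolynomial''.1 (inferInstance : Algebra.FiniteType A B)
  have key : ∀ (p : Spec (CommRingCat.of A)) (κ : Type u) [Field κ] [IsAlgClosed κ] [Algebra A κ],
      RingHom.ker (algebraMap A κ) = p.asIdeal →
      (GeometricallyIrreducible ((Spec.map (CommRingCat.ofHom (algebraMap A B))).fiberToSpecResidueField p) ↔
        (extIdeal κ (RingHom.ker π)).radical.IsPrime) := by
    intro p κ _ _ _ hκ
    rw [geometricallyIrreducible_fiber_iff_of_isSepClosed _ p
      (Spec.map (CommRingCat.ofHom (algebraMap A κ))) (⟨⊥, Ideal.isPrime_bot⟩ : PrimeSpectrum κ)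
      (PrimeSpectrum.ext (show (⊥ : Ideal κ).comap (algebraMap A κ) = p.asIdeal from hκ))]
    exact irreducibleSpace_pullback_Spec_iff π hπ
  let Ω := AlgebraicClosure (FractionRing A)
  have hι : Function.Injective (algebraMap A Ω) := by
    rw [IsScalarTower.algebraMap_eq A (FractionRing A) Ω]
    exact (algebraMap (FractionRing A) Ω).injective.comp (IsFractionRing.injective A (FractionRing A))
  have hgen := (key η Ω (by rw [hη]; exact (RingHom.injective_iff_ker_eq_bot _).1 hι)).1 h
  obtain ⟨a, ha, H⟩ := exists_forall_isPrime_radical hι _ hgen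
  refine ⟨a, ha, fun p hp => ?_⟩
  obtain ⟨κ, _, _, _, hker⟩ : ∃ (κ : Type u) (_ : Field κ) (_ : IsAlgClosed κ) (_ : Algebra A κ),
      RingHom.ker (algebraMap A κ) = p.asIdeal := exists_algClosed_ker p.asIdeal
  exact (key p κ hker).2 (H κ fun h0 => hp (hker.le h0))

end Groth.Agent.FlatMorGeomIrr
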