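import Mathlib

/-! Counting irreducible and connected components. -/

universe u v

open Topology

namespace Groth.Agent.FlatMorGeomIrr

variable {α : Type u} [TopologicalSpace α] {β : Type v} [TopologicalSpace β]

theorem encard_irreducibleComponents_of_cover {ι : Type*} [Finite ι] (C : ι → Set α)
    (hcl : ∀ a, IsClosed (C a)) (hirr : ∀ a, IsIrreducible (C a)) (hcov : ∀ x, ∃ a, x ∈ C a)
    (hne : ∀ a b, C a ⊆ C b → a = b) :
    (irreducibleComponents α).encard = ENat.card ι := by
  classical
  cases nonempty_fintype ι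
  have hmax : ∀ s : Set α, IsIrreducible s → ∃ a, s ⊆ C a := by
    intro s hs
    obtain ⟨t, ht, hsub⟩ := isIrreducible_iff_sUnion_isClosed.1 hs (Finset.univ.image C)
      (by intro z hz; obtain ⟨a, -, rfl⟩ := Finset.mem_image.1 hz; exact hcl a)
      (fun x _ => by
        obtain ⟨a, ha⟩ := hcov x
        exact ⟨C a, by simp, ha⟩)
    obtain ⟨a, -, rfl⟩ := Finset.mem_image.1 ht
    exact ⟨a, hsub⟩
  have heq : irreducibleComponents α = Set.range C := by
    ext s
    constructor
    · intro hs
      obtain ⟨a, ha⟩ := hmax s hs.1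
      exact ⟨a, (le_antisymm ha (hs.2 (hirr a) ha)).symm⟩
    · rintro ⟨a, rfl⟩
      refine ⟨hirr a, fun t ht hat => ?_⟩
      obtain ⟨b, hb⟩ := hmax t ht
      have := hne a b (hat.trans hb)
      subst this
      exact hb
  rw [heq, ← Set.image_univ,
    Set.InjOn.encard_image (fun a _ b _ h => hne a b h.le), Set.encard_univ]

theorem card_connectedComponents_of_cover {ι : Type*} [Finite ι] (C : ι → Set α)
    (hcl : ∀ a, IsClosed (C a)) (hirr : ∀ a, IsIrreducible (C a)) (hcov : ∀ x, ∃ a, x ∈ C a)
    (R : ι → ι → Prop) (hR : ∀ a b, (C a ∩ C b).Nonempty ↔ R a b) :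
    ENat.card (ConnectedComponents α) = ENat.card (Quot R) := by
  have hconn : ∀ a, ∀ x ∈ C a, ∀ y ∈ C a, (x : ConnectedComponents α) = y := fun a x hx y hy =>
    ConnectedComponents.coe_eq_coe.2 ((connectedComponent_eq
      ((hirr a).isConnected.isPreconnected.subset_connectedComponent hx hy)))
  choose p hp using fun a => (hirr a).nonempty
  let Φ : Quot R → ConnectedComponents α := Quot.lift (fun a => (p a : ConnectedComponents α))
    fun a b hab => by
      obtain ⟨z, hza, hzb⟩ := (hR a b).2 hab
      exact (hconn a _ (hp a) z hza).trans (hconn b z hzb _ (hp b))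
  refine (ENat.card_congr (Equiv.ofBijective Φ ⟨?_, ?_⟩)).symm
  · rintro ⟨a⟩ ⟨b⟩ hab
    have hab' : (p a : ConnectedComponents α) = p b := hab
    let U : Set α := ⋃ c ∈ {c | Quot.mk R c = Quot.mk R a}, C c
    let W : Set α := ⋃ c ∈ {c | Quot.mk R c ≠ Quot.mk R a}, C c
    have hU : IsClosed U := (Set.toFinite _).isClosed_biUnion fun c _ => hcl c
    have hW : IsClosed W := (Set.toFinite _).isClosed_biUnion fun c _ => hcl c
    have hUW : Uᶜ = W := by
      ext x
      constructor
      · intro hx
        obtain ⟨c, hc⟩ := hcov x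
        exact Set.mem_biUnion (fun h => hx (Set.mem_biUnion h hc)) hc
      · intro hx hx'
        obtain ⟨c, hc, hxc⟩ := Set.mem_iUnion₂.1 hx
        obtain ⟨c', hc', hxc'⟩ := Set.mem_iUnion₂.1 hx'
        exact hc ((Quot.sound ((hR c c').1 ⟨x, hxc, hxc'⟩)).trans hc')
    have hclopen : IsClopen U := ⟨hU, isClosed_compl_iff.1 (hUW ▸ hW)⟩
    have hpa : p a ∈ U := Set.mem_biUnion (show Quot.mk R a = Quot.mk R a from rfl) (hp a)
    have hpb : p b ∈ U := hclopen.connectedComponent_subset hpa
      (ConnectedComponents.coe_eq_coe.1 hab' ▸ mem_connectedComponent)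
    by_contra hne
    have hpb' : p b ∈ W := Set.mem_biUnion (fun h => hne h.symm) (hp b)
    exact (hUW.ge hpb') hpb
  · intro z
    obtain ⟨x, rfl⟩ := ConnectedComponents.surjective_coe z
    obtain ⟨a, ha⟩ := hcov x
    exact ⟨Quot.mk R a, hconn a _ (hp a) x ha⟩

/-- A quotient map with connected fibres is bijective on connected components. -/
theorem card_connectedComponents_eq (f : α → β) (hc : Continuous f) (ho : IsOpenMap f)
    (hs : Function.Surjective f) (hf : ∀ b, IsConnected (f ⁻¹' {b})) :
    ENat.card (ConnectedComponents α) = ENat.card (ConnectedComponents β) := by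
  refine ENat.card_congr (Equiv.ofBijective hc.connectedComponentsMap ⟨?_, ?_⟩)
  · intro a b hab
    obtain ⟨x, rfl⟩ := ConnectedComponents.surjective_coe a
    obtain ⟨y, rfl⟩ := ConnectedComponents.surjective_coe b
    have hxy : connectedComponent (f x) = connectedComponent (f y) :=
      ConnectedComponents.coe_eq_coe.1 hab
    have hconn : IsPreconnected (f ⁻¹' connectedComponent (f x)) := by
      rw [(ho.isQuotientMap hc hs).isCoinducing.preimage_connectedComponent hf x]
      exact isPreconnected_connectedComponent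
    refine ConnectedComponents.coe_eq_coe.2 (connectedComponent_eq
      (hconn.subset_connectedComponent mem_connectedComponent ?_))
    rw [Set.mem_preimage, hxy]
    exact mem_connectedComponent
  · intro z
    obtain ⟨y, rfl⟩ := ConnectedComponents.surjective_coe z
    obtain ⟨x, rfl⟩ := hs y
    exact ⟨x, rfl⟩

theorem encard_irreducibleComponents_congr {s : Set (Set α)} {t : Set (Set β)} (e : s ≃ t) :
    s.encard = t.encard := by
  rw [← ENat.card_coe_set_eq, ← ENat.card_coe_set_eq, ENat.card_congr e]

end Groth.Agent.FlatMorGeomIrr
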