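import Groth.Prelude.Def_MoreMor
import Groth.Agent.FlatMorGeomIrr.Affine
import Groth.Agent.FlatMorGeomIrr.Count

/-! The numbers of geometric components do not depend on the separably closed field. -/

universe u

open AlgebraicGeometry CategoryTheory Limits

namespace Groth.Agent.FlatMorGeomIrr

set_option backward.isDefEq.respectTransparency false

/-- Open continuous surjections with irreducible fibres preserve both counts. -/
theorem counts_eq_of_open {α β : Type u} [TopologicalSpace α] [TopologicalSpace β] (f : α → β)
    (hc : Continuous f) (ho : IsOpenMap f) (hs : Function.Surjective f)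
    (hf : ∀ b, IsIrreducible (f ⁻¹' {b})) :
    (irreducibleComponents α).encard = (irreducibleComponents β).encard ∧
      ENat.card (_root_.ConnectedComponents α) = ENat.card (_root_.ConnectedComponents β) :=
  ⟨encard_irreducibleComponents_congr
    (irreducibleComponentsEquivOfIsPreirreducibleFiber f hc ho (fun b => (hf b).isPreirreducible)
      hs).symm.toEquiv,
    card_connectedComponents_eq f hc ho hs fun b => (hf b).isConnected⟩

theorem counts_eq_of_iso {A B : Scheme.{u}} (e : A ≅ B) :
    (irreducibleComponents ↥A).encard = (irreducibleComponents ↥B).encard ∧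
      ENat.card (_root_.ConnectedComponents ↥A) = ENat.card (_root_.ConnectedComponents ↥B) :=
  counts_eq_of_open e.hom.homeomorph (Homeomorph.continuous _) (Homeomorph.isOpenMap _)
    (Homeomorph.surjective _) fun b => by
      rw [← congrFun (Homeomorph.image_symm e.hom.homeomorph) {b}, Set.image_singleton]
      exact isIrreducible_singleton

theorem counts_eq_of_field_hom {k K Ω : Type u} [Field k] [Field K] [Field Ω] [IsSepClosed K]
    (φ : k →+* K) (ψ : k →+* Ω) (θ : K →+* Ω) (hθ : θ.comp φ = ψ) {Z : Scheme.{u}}
    (p : Z ⟶ Spec (CommRingCat.of k)) :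
    (irreducibleComponents ↥(pullback p (Spec.map (CommRingCat.ofHom ψ)))).encard =
        (irreducibleComponents ↥(pullback p (Spec.map (CommRingCat.ofHom φ)))).encard ∧
      ENat.card (_root_.ConnectedComponents ↥(pullback p (Spec.map (CommRingCat.ofHom ψ)))) =
        ENat.card (_root_.ConnectedComponents ↥(pullback p (Spec.map (CommRingCat.ofHom φ)))) := by
  have hcomp : Spec.map (CommRingCat.ofHom θ) ≫ Spec.map (CommRingCat.ofHom φ) =
      Spec.map (CommRingCat.ofHom ψ) := by
    rw [← Spec.map_comp, ← CommRingCat.ofHom_comp, hθ]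
  let π : pullback p (Spec.map (CommRingCat.ofHom ψ)) ⟶ pullback p (Spec.map (CommRingCat.ofHom φ)) :=
    pullback.lift (pullback.fst _ _) (pullback.snd _ _ ≫ Spec.map (CommRingCat.ofHom θ))
      (by rw [pullback.condition, Category.assoc, hcomp])
  have hπ : IsPullback π (pullback.snd p (Spec.map (CommRingCat.ofHom ψ)))
      (pullback.snd p (Spec.map (CommRingCat.ofHom φ))) (Spec.map (CommRingCat.ofHom θ)) := by
    refine IsPullback.of_right ?_ (pullback.lift_snd _ _ _) (IsPullback.of_hasPullback p _)
    rw [pullback.lift_fst, hcomp]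
    exact IsPullback.of_hasPullback p _
  letI := θ.toAlgebra
  haveI : GeometricallyIrreducible (Spec.map (CommRingCat.ofHom θ)) :=
    VarietyLib.geometricallyIrreducible_algSpec K Ω
  haveI := universallyOpen_of_field (Spec.map (CommRingCat.ofHom θ))
  haveI hg : GeometricallyIrreducible π :=
    MorphismProperty.of_isPullback (P := @GeometricallyIrreducible) hπ.flip inferInstance
  haveI : UniversallyOpen π :=
    MorphismProperty.of_isPullback (P := @UniversallyOpen) hπ.flip inferInstance
  exact counts_eq_of_open π π.continuous π.isOpenMap π.surjective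
    fun b => π.isIrreducible_preimage π.isOpenMap isIrreducible_singleton

theorem counts_eq_geomFiber_aux {X Y : Scheme.{u}} (f : X ⟶ Y) (y : Y) {Ω : Type u} [Field Ω]
    [IsSepClosed Ω] (ψ : Y.residueField y ⟶ CommRingCat.of Ω) :
    (irreducibleComponents ↥(pullback f (Spec.map ψ ≫ Y.fromSpecResidueField y))).encard =
        MoreMor.nGeomIrredComp f y ∧
      ENat.card (_root_.ConnectedComponents ↥(pullback f (Spec.map ψ ≫ Y.fromSpecResidueField y))) =
        MoreMor.nGeomConnComp f y := by
  have he := counts_eq_of_iso (pullbackLeftPullbackSndIso f (Y.fromSpecResidueField y) (Spec.map ψ))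
  obtain ⟨θ, hθ⟩ : ∃ θ : SeparableClosure (Y.residueField y) →+* Ω,
      θ.comp (algebraMap (Y.residueField y) (SeparableClosure (Y.residueField y))) = ψ.hom := by
    letI := ψ.hom.toAlgebra
    exact ⟨(IsSepClosed.lift : SeparableClosure (Y.residueField y) →ₐ[Y.residueField y] Ω).toRingHom,
      AlgHom.comp_algebraMap _⟩
  have h := counts_eq_of_field_hom (k := Y.residueField y) _ ψ.hom θ hθ (f.fiberToSpecResidueField y)
  exact ⟨he.1.symm.trans h.1, he.2.symm.trans h.2⟩

/-- Both counts may be computed at any separably closed field valued point. -/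
theorem counts_eq_geomFiber {X Y : Scheme.{u}} (f : X ⟶ Y) {y : Y} {Ω : Type u} [Field Ω]
    [IsSepClosed Ω] (s : Spec (CommRingCat.of Ω) ⟶ Y) (z : Spec (CommRingCat.of Ω)) (hs : s z = y) :
    (irreducibleComponents ↥(pullback f s)).encard = MoreMor.nGeomIrredComp f y ∧
      ENat.card (_root_.ConnectedComponents ↥(pullback f s)) = MoreMor.nGeomConnComp f y := by
  obtain ⟨⟨y', ψ⟩, rfl⟩ := (Scheme.SpecToEquivOfField Ω Y).symm.surjective s
  have hy' : y' = y := hs ▸ (Scheme.fromSpecResidueField_apply y' _).symm
  subst hy'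
  exact counts_eq_geomFiber_aux f _ ψ

/-- The counts are compatible with base change. -/
theorem counts_baseChange {X Y X' Y' : Scheme.{u}} (f : X ⟶ Y) (f' : X' ⟶ Y') (g' : X' ⟶ X)
    (g : Y' ⟶ Y) (hc : IsPullback g' f' f g) (y' : Y') :
    MoreMor.nGeomIrredComp f' y' = MoreMor.nGeomIrredComp f (g y') ∧
      MoreMor.nGeomConnComp f' y' = MoreMor.nGeomConnComp f (g y') := by
  obtain ⟨Ω, _, _, s, z, hs⟩ := exists_algClosed_point y'
  have h1 := counts_eq_geomFiber f' s z hs
  have h2 := counts_eq_geomFiber f (s ≫ g) z (y := g y') (by rw [Scheme.Hom.comp_apply, hs])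
  have he := counts_eq_of_iso ((IsPullback.of_hasPullback f' s).paste_horiz hc).isoPullback
  exact ⟨h1.1.symm.trans (he.1.trans h2.1), h1.2.symm.trans (he.2.trans h2.2)⟩

end Groth.Agent.FlatMorGeomIrr
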