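import Groth.Agent.FlatMorGeomIrr.Scheme
import Groth.Agent.FlatMorGeomIrr.GeomFibre
import Groth.Agent.S1654

/-! The numbers of geometric components are constant near the generic point. -/

universe u

open AlgebraicGeometry CategoryTheory Limits

namespace Groth.Agent.FlatMorGeomIrr

set_option backward.isDefEq.respectTransparency false

/-- The reduced closed subscheme on a closed set. -/
noncomputable abbrev redι {X : Scheme.{u}} {Z : Set X} (hZ : IsClosed Z) :=
  (Scheme.IdealSheafData.vanishingIdeal (X := X) ⟨Z, hZ⟩).subschemeι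

theorem range_redι {X : Scheme.{u}} {Z : Set X} (hZ : IsClosed Z) : Set.range (redι hZ) = Z := by
  rw [Scheme.IdealSheafData.range_subschemeι, Scheme.IdealSheafData.coe_support_vanishingIdeal]
  rfl

theorem irreducibleSpace_pullback_closed_iff {X Y S Z : Scheme.{u}} (i : Z ⟶ X) [IsClosedImmersion i]
    (f : X ⟶ Y) (s : S ⟶ Y) :
    IrreducibleSpace ↥(pullback (i ≫ f) s) ↔ IsIrreducible (pullback.fst f s ⁻¹' Set.range i) := by
  let i' : pullback (i ≫ f) s ⟶ pullback f s :=
    pullback.lift (pullback.fst _ _ ≫ i) (pullback.snd _ _) (by rw [Category.assoc, pullback.condition])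
  have hsq : IsPullback i' (pullback.fst (i ≫ f) s) (pullback.fst f s) i := by
    refine IsPullback.of_right ?_ (pullback.lift_fst _ _ _) (IsPullback.of_hasPullback f s).flip
    rw [pullback.lift_snd]
    exact (IsPullback.of_hasPullback (i ≫ f) s).flip
  haveI : IsClosedImmersion i' :=
    MorphismProperty.of_isPullback (P := @IsClosedImmersion) hsq.flip inferInstance
  have hr : Set.range i' = pullback.fst f s ⁻¹' Set.range i := by
    rw [← hsq.isoPullback_hom_fst, Scheme.Hom.comp_base, TopCat.coe_comp, Set.range_comp,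
      Set.range_eq_univ.2 (show Function.Surjective hsq.isoPullback.hom from
        hsq.isoPullback.hom.homeomorph.surjective), Set.image_univ, Scheme.Pullback.range_fst]
  rw [← hr]
  constructor
  · intro h
    rw [← Set.image_univ]
    exact (IrreducibleSpace.isIrreducible_univ _).image _ i'.continuous.continuousOn
  · intro h
    haveI := Subtype.irreducibleSpace h
    exact i'.isEmbedding.toHomeomorph.symm.surjective.irreducibleSpace
      i'.isEmbedding.toHomeomorph.symm.continuous

/-- Counting geometric components from a family of closed sets with geometrically irreducible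
fibres. -/
theorem counts_of_family {X Y : Scheme.{u}} (f : X ⟶ Y) (y : Y) {ι : Type*} [Finite ι]
    (Z : ι → Set X) (hZ : ∀ a, IsClosed (Z a))
    (hirr : ∀ a, GeometricallyIrreducible ((redι (hZ a) ≫ f).fiberToSpecResidueField y))
    (hcov : ∀ x, f x = y → ∃ a, x ∈ Z a)
    (hne : ∀ a b, a ≠ b → ∃ x, f x = y ∧ x ∈ Z a ∧ x ∉ Z b) :
    MoreMor.nGeomIrredComp f y = ENat.card ι ∧
      MoreMor.nGeomConnComp f y = ENat.card (Quot fun a b => ∃ x, f x = y ∧ x ∈ Z a ∧ x ∈ Z b) := by
  obtain ⟨Ω, _, _, s, z, hs⟩ := exists_algClosed_point y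
  obtain ⟨h1, h2⟩ := counts_eq_geomFiber f s z hs
  rw [← h1, ← h2]
  let q := pullback.fst f s
  have hq : ∀ w, f (q w) = y := fun w => by
    show (q ≫ f) w = y
    rw [pullback.condition, Scheme.Hom.comp_apply,
      Subsingleton.elim (α := PrimeSpectrum Ω) (pullback.snd f s w) z, hs]
  have hlift : ∀ x, f x = y → ∃ w, q w = x := fun x hx => by
    obtain ⟨w, hw, -⟩ := Scheme.Pullback.exists_preimage_pullback (f := f) (g := s) x z (hx.trans hs.symm)
    exact ⟨w, hw⟩
  have hC : ∀ a, IsIrreducible (q ⁻¹' Z a) := fun a => by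
    have h := (irreducibleSpace_pullback_closed_iff (redι (hZ a)) f s).1
      ((geometricallyIrreducible_fiber_iff_of_isSepClosed _ y s z hs).1 (hirr a))
    rwa [range_redι] at h
  refine ⟨encard_irreducibleComponents_of_cover (fun a => q ⁻¹' Z a)
      (fun a => (hZ a).preimage q.continuous) hC (fun w => hcov _ (hq w)) (fun a b hab => ?_),
    card_connectedComponents_of_cover (fun a => q ⁻¹' Z a)
      (fun a => (hZ a).preimage q.continuous) hC (fun w => hcov _ (hq w)) _ (fun a b => ?_)⟩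
  · by_contra hne'
    obtain ⟨x, hx, hxa, hxb⟩ := hne a b hne'
    obtain ⟨w, rfl⟩ := hlift x hx
    exact hxb (hab hxa)
  · exact ⟨fun ⟨w, ha, hb⟩ => ⟨q w, hq w, ha, hb⟩, fun ⟨x, hx, ha, hb⟩ => by
      obtain ⟨w, rfl⟩ := hlift x hx
      exact ⟨w, ha, hb⟩⟩

/-- The counts are constant near the generic point, given a family that works there. -/
theorem exists_opens_counts_eq_of_family {X Y : Scheme.{u}} (f : X ⟶ Y) [IrreducibleSpace ↑Y]
    [LocallyOfFiniteType f] [QuasiCompact f] {ι : Type*} [Finite ι]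
    (Z : ι → Set X) (hZ : ∀ a, IsClosed (Z a))
    (hirr : ∀ a, GeometricallyIrreducible ((redι (hZ a) ≫ f).fiberToSpecResidueField (genericPoint ↑Y)))
    (hcov : ∀ x, f x = genericPoint ↑Y → ∃ a, x ∈ Z a)
    (hne : ∀ a b, a ≠ b → ∃ x, f x = genericPoint ↑Y ∧ x ∈ Z a ∧ x ∉ Z b) :
    ∃ V : Y.Opens, (V : Set ↑Y).Nonempty ∧ ∀ y ∈ V,
      MoreMor.nGeomIrredComp f y = MoreMor.nGeomIrredComp f (genericPoint ↑Y) ∧
        MoreMor.nGeomConnComp f y = MoreMor.nGeomConnComp f (genericPoint ↑Y) := by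
  classical
  obtain ⟨V₁, hV₁, hV₁'⟩ := FlatMorGeneric.exists_opens_forall_exists_specializes f
  choose V₂ hV₂ hV₂' using fun a : ι =>
    exists_opens_forall_geometricallyIrreducible (redι (hZ a) ≫ f) (hirr a)
  have hdiff : ∀ a b : ι, ∃ V : Y.Opens, (V : Set ↑Y).Nonempty ∧
      ∀ y ∈ V, a ≠ b → ∃ x, f x = y ∧ x ∈ Z a ∧ x ∉ Z b := by
    intro a b
    by_cases hab : a = b
    · exact ⟨⊤, ⟨genericPoint ↑Y, trivial⟩, fun y _ h => absurd hab h⟩
    obtain ⟨x, hx, hxa, hxb⟩ := hne a b hab
    obtain ⟨x', rfl⟩ := (range_redι (hZ a)).ge hxa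
    obtain ⟨V, hV, hV'⟩ := FlatMorGeneric.exists_opens_forall_open_meets (redι (hZ a) ≫ f)
      ⟨redι (hZ a) ⁻¹' (Z b)ᶜ, (hZ b).isOpen_compl.preimage (redι (hZ a)).continuous⟩ ⟨x', hxb, hx⟩
    refine ⟨V, hV, fun y hy _ => ?_⟩
    obtain ⟨w, hw, hwy⟩ := hV' y hy
    exact ⟨redι (hZ a) w, hwy, (range_redι (hZ a)).le ⟨w, rfl⟩, hw⟩
  choose V₃ hV₃ hV₃' using hdiff
  have hmeet : ∀ a b : ι, ∃ V : Y.Opens, (V : Set ↑Y).Nonempty ∧ ∀ y ∈ V,
      ((∃ x, f x = y ∧ x ∈ Z a ∧ x ∈ Z b) ↔ ∃ x, f x = genericPoint ↑Y ∧ x ∈ Z a ∧ x ∈ Z b) := by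
    intro a b
    by_cases h : ∃ x, f x = genericPoint ↑Y ∧ x ∈ Z a ∧ x ∈ Z b
    · obtain ⟨x, hx, hxa, hxb⟩ := h
      obtain ⟨V, hV, hV'⟩ := FlatMorGeneric.exists_opens_forall_closed_meets f
        ((hZ a).inter (hZ b)) ⟨x, ⟨hxa, hxb⟩, hx⟩
      refine ⟨V, hV, fun y hy => iff_of_true ?_ ⟨x, hx, hxa, hxb⟩⟩
      obtain ⟨w, hw, hwy⟩ := hV' y hy
      exact ⟨w, hwy, hw⟩
    · obtain ⟨V, hV, hV'⟩ := FlatMorGeneric.exists_opens_forall_closed_misses f
        ((hZ a).inter (hZ b)) fun x hx hxη => h ⟨x, hxη, hx⟩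
      exact ⟨V, hV, fun y hy => iff_of_false (fun ⟨w, hwy, hw⟩ => hV' w hw (hwy ▸ hy)) h⟩
  choose V₄ hV₄ hV₄' using hmeet
  obtain ⟨W₂, hW₂, hW₂'⟩ := FlatMorGeneric.exists_opens_le_forall V₂ hV₂
  obtain ⟨W₃, hW₃, hW₃'⟩ := FlatMorGeneric.exists_opens_le_forall
    (fun p : ι × ι => V₃ p.1 p.2) fun p => hV₃ _ _
  obtain ⟨W₄, hW₄, hW₄'⟩ := FlatMorGeneric.exists_opens_le_forall
    (fun p : ι × ι => V₄ p.1 p.2) fun p => hV₄ _ _
  have hgm : ∀ W : Y.Opens, (W : Set ↑Y).Nonempty → genericPoint ↑Y ∈ W := fun W ⟨w, hw⟩ =>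
    (genericPoint_specializes w).mem_open W.isOpen hw
  refine ⟨V₁ ⊓ W₂ ⊓ W₃ ⊓ W₄,
    ⟨genericPoint ↑Y, ⟨⟨hgm _ hV₁, hgm _ hW₂⟩, hgm _ hW₃⟩, hgm _ hW₄⟩, fun y hy => ?_⟩
  have hcov' : ∀ x, f x = y → ∃ a, x ∈ Z a := fun x hx => by
    obtain ⟨x', hx', hsp⟩ := hV₁' x (hx ▸ hy.1.1.1)
    obtain ⟨a, ha⟩ := hcov x' hx'
    exact ⟨a, hsp.mem_closed (hZ a) ha⟩
  have h1 := counts_of_family f y Z hZ (fun a => hV₂' a y (hW₂' a hy.1.1.2)) hcov'
    fun a b => hV₃' a b y (hW₃' (a, b) hy.1.2)
  have h2 := counts_of_family f (genericPoint ↑Y) Z hZ hirr hcov hne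
  have hR : (fun a b => ∃ x, f x = y ∧ x ∈ Z a ∧ x ∈ Z b) =
      fun a b => ∃ x, f x = genericPoint ↑Y ∧ x ∈ Z a ∧ x ∈ Z b :=
    funext fun a => funext fun b => propext (hV₄' a b y (hW₄' (a, b) hy.2))
  exact ⟨h1.1.trans h2.1.symm, by rw [h1.2, h2.2, hR]⟩

theorem exists_model_of_field (A : Type u) [CommRing A] [IsDomain A] (L : Type u) [Field L]
    [Algebra A L] [Algebra (FractionRing A) L] [IsScalarTower A (FractionRing A) L]
    [FiniteDimensional (FractionRing A) L] :
    ∃ (A' : Type u) (_ : CommRing A') (_ : IsDomain A') (_ : Algebra A A') (_ : Algebra A' L),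
      IsScalarTower A A' L ∧ Algebra.FiniteType A A' ∧ IsFractionRing A' L := by
  classical
  let K := FractionRing A
  let b := Module.finBasis K L
  let A' := Algebra.adjoin A (Set.range b)
  haveI : FaithfulSMul A' L := (faithfulSMul_iff_algebraMap_injective _ _).2 Subtype.val_injective
  refine ⟨A', inferInstance, inferInstance, inferInstance, inferInstance, inferInstance,
    (Subalgebra.fg_iff_finiteType _).1 (Subalgebra.fg_def.2 ⟨_, Set.finite_range b, rfl⟩),
    IsFractionRing.of_field A' L fun z => ?_⟩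
  obtain ⟨c, hc⟩ := IsLocalization.exist_integer_multiples_of_finite (nonZeroDivisors A) (b.repr z)
  choose a ha using fun i => hc i
  refine ⟨⟨∑ i, algebraMap A L (a i) * b i, Subalgebra.sum_mem _ fun i _ =>
      mul_mem (Subalgebra.algebraMap_mem _ _) (Algebra.subset_adjoin ⟨i, rfl⟩)⟩,
    ⟨algebraMap A L (c : A), Subalgebra.algebraMap_mem _ _⟩, ?_⟩
  have hc0 : algebraMap A L (c : A) ≠ 0 := by
    rw [IsScalarTower.algebraMap_apply A K L, map_ne_zero]
    exact IsFractionRing.to_map_ne_zero_of_mem_nonZeroDivisors c.2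
  show z = (∑ i, algebraMap A L (a i) * b i) / algebraMap A L (c : A)
  rw [eq_div_iff hc0]
  conv_lhs => rw [← b.sum_repr z, Finset.sum_mul]
  refine Finset.sum_congr rfl fun i _ => ?_
  rw [IsScalarTower.algebraMap_apply A K L (a i), ha i, Algebra.smul_def (c : A), map_mul,
    ← IsScalarTower.algebraMap_apply, Algebra.smul_def (b.repr z i)]
  ring

/-- The family of closures of geometrically irreducible generic components. -/
theorem exists_family_of_L {A' : Type u} [CommRing A'] [IsDomain A'] {L : Type u} [Field L]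
    [Algebra A' L] [IsFractionRing A' L] {X' : Scheme.{u}} (f' : X' ⟶ Spec (CommRingCat.of A'))
    {P : Scheme.{u}} (j : P ⟶ X') (p : P ⟶ Spec (CommRingCat.of L))
    (hsq : IsPullback j p f' (Spec.map (CommRingCat.ofHom (algebraMap A' L))))
    (hfin : (irreducibleComponents ↥P).Finite)
    (hT : ∀ (T : Set P) (hT : T ∈ irreducibleComponents ↥P),
      GeometricallyIrreducible (redι (isClosed_of_mem_irreducibleComponents T hT) ≫ p))
    (η : Spec (CommRingCat.of A')) (hη : η.asIdeal = ⊥) :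
    ∃ (ι : Type u) (_ : Finite ι) (Z : ι → Set X') (hZ : ∀ a, IsClosed (Z a)),
      (∀ a, GeometricallyIrreducible ((redι (hZ a) ≫ f').fiberToSpecResidueField η)) ∧
      (∀ x, f' x = η → ∃ a, x ∈ Z a) ∧
      ∀ a b, a ≠ b → ∃ x, f' x = η ∧ x ∈ Z a ∧ x ∉ Z b := by
  let sL := Spec.map (CommRingCat.ofHom (algebraMap A' L))
  haveI : IsPreimmersion sL := IsPreimmersion.of_isLocalization (S := L) (nonZeroDivisors A')
  haveI : IsPreimmersion j := MorphismProperty.of_isPullback (P := @IsPreimmersion) hsq.flip inferInstance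
  have hsη : ∀ w, sL w = η := fun w => PrimeSpectrum.ext (by
    rw [hη]
    show Ideal.comap (algebraMap A' L) w.asIdeal = ⊥
    rw [(Ideal.eq_bot_or_top w.asIdeal).resolve_right w.isPrime.ne_top]
    exact (RingHom.injective_iff_ker_eq_bot _).1 (IsFractionRing.injective A' L))
  have hjη : ∀ w, f' (j w) = η := fun w => by
    rw [← Scheme.Hom.comp_apply, hsq.w, Scheme.Hom.comp_apply]; exact hsη _
  have hjs : ∀ x, f' x = η → ∃ w, j w = x := fun x hx => by
    obtain ⟨w, hw, -⟩ := Scheme.Pullback.exists_preimage_pullback (f := f') (g := sL) x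
      (⟨⊥, Ideal.isPrime_bot⟩ : PrimeSpectrum L) (hx.trans (hsη _).symm)
    exact ⟨hsq.isoPullback.inv w, by rw [← Scheme.Hom.comp_apply, hsq.isoPullback_inv_fst, hw]⟩
  haveI := hfin.to_subtype
  choose t ht using fun T : irreducibleComponents ↥P => QuasiSober.sober T.2.1
    (isClosed_of_mem_irreducibleComponents T.1 T.2)
  have hpre : ∀ T, j ⁻¹' closure {j (t T)} = (T : Set P) := fun T => by
    rw [← Set.image_singleton, ← j.isEmbedding.isInducing.closure_eq_preimage_closure_image]
    exact ht T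
  refine ⟨irreducibleComponents ↥P, inferInstance, fun T => closure {j (t T)},
    fun T => isClosed_closure, fun T => ?_, fun x hx => ?_, fun T T' hne => ?_⟩
  · let Ω := AlgebraicClosure L
    let θ : Spec (CommRingCat.of Ω) ⟶ Spec (CommRingCat.of L) :=
      Spec.map (CommRingCat.ofHom (algebraMap L Ω))
    refine (geometricallyIrreducible_fiber_iff_of_isSepClosed _ η (θ ≫ sL)
      (⟨⊥, Ideal.isPrime_bot⟩ : PrimeSpectrum Ω) (by rw [Scheme.Hom.comp_apply]; exact hsη _)).2
      ((irreducibleSpace_pullback_closed_iff _ f' (θ ≫ sL)).2 ?_)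
    rw [range_redι]
    haveI := hT T.1 T.2
    haveI := universallyOpen_of_field θ
    haveI : IrreducibleSpace ↥(Spec (CommRingCat.of Ω)) :=
      inferInstanceAs (IrreducibleSpace (PrimeSpectrum Ω))
    haveI hp := universallyOpen_of_field (redι (isClosed_of_mem_irreducibleComponents T.1 T.2) ≫ p)
    have h := (irreducibleSpace_pullback_closed_iff (redι (isClosed_of_mem_irreducibleComponents T.1 T.2)) p θ).1
      inferInstance
    rw [range_redι, ← hpre T] at h
    have sq := (IsPullback.of_hasPullback p θ).paste_horiz hsq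
    have h2 := h.image sq.isoPullback.hom sq.isoPullback.hom.continuous.continuousOn
    convert h2
    ext w
    constructor
    · intro hw
      refine ⟨sq.isoPullback.inv w, ?_, by rw [← Scheme.Hom.comp_apply, Iso.inv_hom_id]; rfl⟩
      show j (pullback.fst p θ (sq.isoPullback.inv w)) ∈ closure {j (t T)}
      rw [← Scheme.Hom.comp_apply, ← Scheme.Hom.comp_apply, sq.isoPullback_inv_fst]
      exact hw
    · rintro ⟨v, hv, rfl⟩
      show pullback.fst f' (θ ≫ sL) (sq.isoPullback.hom v) ∈ closure {j (t T)}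
      rw [← Scheme.Hom.comp_apply, sq.isoPullback_hom_fst, Scheme.Hom.comp_apply]
      exact hv
  · obtain ⟨w, rfl⟩ := hjs x hx
    exact ⟨⟨_, irreducibleComponent_mem_irreducibleComponents w⟩,
      (hpre ⟨_, irreducibleComponent_mem_irreducibleComponents w⟩).ge mem_irreducibleComponent⟩
  · refine ⟨j (t T), hjη _, subset_closure rfl, fun h => hne (Subtype.ext ?_)⟩
    have h' : t T ∈ (T' : Set P) := (hpre T').le h
    have hle : (T : Set P) ⊆ T' := by
      rw [← (ht T).def]
      exact closure_minimal (Set.singleton_subset_iff.2 h') (isClosed_of_mem_irreducibleComponents _ T'.2)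
    exact le_antisymm hle (T.2.2 T'.2.1 hle)

/-- The case of an affine integral base. -/
theorem exists_nhd_counts_of_Spec {A : CommRingCat.{u}} [IsDomain A] {X : Scheme.{u}}
    (f : X ⟶ Spec A) [LocallyOfFiniteType f] [QuasiCompact f] (η : Spec A) (hη : η.asIdeal = ⊥) :
    ∃ V : (Spec A).Opens, η ∈ V ∧ ∀ y ∈ V,
      MoreMor.nGeomIrredComp f y = MoreMor.nGeomIrredComp f η ∧
        MoreMor.nGeomConnComp f y = MoreMor.nGeomConnComp f η := by
  let K := FractionRing A
  let sK : Spec (CommRingCat.of K) ⟶ Spec A := Spec.map (CommRingCat.ofHom (algebraMap A K))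
  let XK := pullback f sK
  letI : XK.Over (Spec (CommRingCat.of K)) := ⟨pullback.snd f sK⟩
  haveI : LocallyOfFiniteType (XK ↘ Spec (CommRingCat.of K)) :=
    MorphismProperty.pullback_snd f sK inferInstance
  haveI : QuasiCompact (XK ↘ Spec (CommRingCat.of K)) :=
    MorphismProperty.pullback_snd f sK inferInstance
  haveI : IsLocallyNoetherian XK := LocallyOfFiniteType.isLocallyNoetherian (XK ↘ Spec (CommRingCat.of K))
  haveI : CompactSpace XK := QuasiCompact.compactSpace_of_compactSpace (XK ↘ Spec (CommRingCat.of K))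
  haveI : IsNoetherian XK := {}
  obtain ⟨L, _, _, hLfin, -, hT⟩ := S1654.result K XK
    TopologicalSpace.NoetherianSpace.finite_irreducibleComponents
  letI : Algebra A L := ((algebraMap K L).comp (algebraMap A K)).toAlgebra
  haveI : IsScalarTower A K L := IsScalarTower.of_algebraMap_eq' rfl
  obtain ⟨A', _, _, _, _, htow, hft, hfrac⟩ := exists_model_of_field A L
  haveI := htow
  let g : Spec (CommRingCat.of A') ⟶ Spec A := Spec.map (CommRingCat.ofHom (algebraMap A A'))
  haveI : LocallyOfFiniteType g := HasRingHomProperty.Spec_iff.2 (RingHom.finiteType_algebraMap.2 hft)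
  let f' := pullback.snd f g
  haveI : LocallyOfFiniteType f' := MorphismProperty.pullback_snd _ _ inferInstance
  haveI : QuasiCompact f' := MorphismProperty.pullback_snd _ _ inferInstance
  let sL := Spec.map (CommRingCat.ofHom (algebraMap A' L))
  let sKL := Spec.map (CommRingCat.ofHom (algebraMap K L))
  have hbase : sKL ≫ sK = sL ≫ g := by
    rw [← Spec.map_comp, ← Spec.map_comp, ← CommRingCat.ofHom_comp, ← CommRingCat.ofHom_comp,
      ← IsScalarTower.algebraMap_eq, ← IsScalarTower.algebraMap_eq]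
  let P := Curv2.bc K XK L
  have hout : IsPullback (pullback.fst (pullback.snd f sK) sKL ≫ pullback.fst f sK)
      (pullback.snd (pullback.snd f sK) sKL) f (sL ≫ g) :=
    hbase ▸ (IsPullback.of_hasPullback (pullback.snd f sK) sKL).paste_horiz (IsPullback.of_hasPullback f sK)
  let j : P ⟶ pullback f g := pullback.lift
    (pullback.fst (pullback.snd f sK) sKL ≫ pullback.fst f sK) (pullback.snd (pullback.snd f sK) sKL ≫ sL)
    (hout.w.trans (Category.assoc _ _ _).symm)
  have hsq : IsPullback j (pullback.snd (pullback.snd f sK) sKL) f' sL := by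
    refine IsPullback.of_right ?_ (pullback.lift_snd _ _ _) (IsPullback.of_hasPullback f g)
    rw [pullback.lift_fst]
    exact hout
  haveI : LocallyOfFiniteType (Curv2.bcSnd K XK L) := MorphismProperty.pullback_snd _ _ inferInstance
  haveI : QuasiCompact (Curv2.bcSnd K XK L) := MorphismProperty.pullback_snd _ _ inferInstance
  haveI : IsLocallyNoetherian P := LocallyOfFiniteType.isLocallyNoetherian (Curv2.bcSnd K XK L)
  haveI : CompactSpace P := QuasiCompact.compactSpace_of_compactSpace (Curv2.bcSnd K XK L)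
  haveI : IsNoetherian P := {}
  let η' : Spec (CommRingCat.of A') := (⟨⊥, Ideal.isPrime_bot⟩ : PrimeSpectrum A')
  obtain ⟨ι, _, Z, hZ, hirr, hcov, hne⟩ := exists_family_of_L f' j (pullback.snd _ _) hsq
    TopologicalSpace.NoetherianSpace.finite_irreducibleComponents hT η' rfl
  haveI : IrreducibleSpace ↥(Spec (CommRingCat.of A')) :=
    inferInstanceAs (IrreducibleSpace (PrimeSpectrum A'))
  have hgp : genericPoint ↥(Spec (CommRingCat.of A')) = η' := by
    refine (genericPoint_spec _).eq ?_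
    refine isGenericPoint_iff_specializes.2 fun z => iff_of_true ?_ trivial
    exact (PrimeSpectrum.le_iff_specializes _ _).1 bot_le
  obtain ⟨V', hV', hc⟩ := exists_opens_counts_eq_of_family f' Z hZ (by rw [hgp]; exact hirr)
    (by rw [hgp]; exact hcov) (by rw [hgp]; exact hne)
  have hgη : g η' = η := PrimeSpectrum.ext (by
    rw [hη]
    show Ideal.comap (algebraMap A A') ⊥ = ⊥
    refine (RingHom.injective_iff_ker_eq_bot _).1 fun x y hxy => ?_
    apply IsFractionRing.injective A K
    apply (algebraMap K L).injective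
    rw [← IsScalarTower.algebraMap_apply, ← IsScalarTower.algebraMap_apply,
      IsScalarTower.algebraMap_apply A A' L, IsScalarTower.algebraMap_apply A A' L, hxy])
  haveI : IrreducibleSpace ↥(Spec A) := inferInstanceAs (IrreducibleSpace (PrimeSpectrum A))
  have hgpA : genericPoint ↥(Spec A) = η := by
    refine (genericPoint_spec _).eq ?_
    rw [show η = (⟨⊥, Ideal.isPrime_bot⟩ : PrimeSpectrum A) from PrimeSpectrum.ext hη]
    refine isGenericPoint_iff_specializes.2 fun z => iff_of_true ?_ trivial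
    exact (PrimeSpectrum.le_iff_specializes _ _).1 bot_le
  have hη'V : η' ∈ V' := by
    obtain ⟨w, hw⟩ := hV'
    rw [← hgp]
    exact (genericPoint_specializes w).mem_open V'.isOpen hw
  obtain ⟨V, hV, hVg⟩ := FlatMorGeneric.exists_opens_forall_open_meets g V' ⟨η', hη'V, hgη.trans hgpA.symm⟩
  refine ⟨V, ?_, fun y hy => ?_⟩
  · obtain ⟨w, hw⟩ := hV
    rw [← hgpA]
    exact (genericPoint_specializes w).mem_open V.isOpen hw
  obtain ⟨y', hy', rfl⟩ := hVg y hy
  have hb := IsPullback.of_hasPullback f g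
  obtain ⟨b1, b2⟩ := counts_baseChange f f' _ g hb y'
  obtain ⟨c1, c2⟩ := counts_baseChange f f' _ g hb η'
  obtain ⟨d1, d2⟩ := hc y' hy'
  rw [hgp] at d1 d2
  rw [hgη] at c1 c2
  exact ⟨b1 ▸ d1.trans c1, b2 ▸ d2.trans c2⟩

/-- An integral affine chart at the generic point of an irreducible scheme. -/
theorem exists_integral_chart (Y : Scheme.{u}) [IrreducibleSpace ↑Y] :
    ∃ (R : CommRingCat.{u}) (_ : IsDomain R) (c : Spec R ⟶ Y) (η : Spec R),
      IsOpenMap c ∧ η.asIdeal = ⊥ ∧ c η = genericPoint ↑Y := by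
  let i := Y.nilradical.subschemeι
  have hred : IsReduced Y.nilradical.subscheme := by
    rw [← Scheme.IdealSheafData.vanishingIdeal_top]
    exact Props12.isReduced_subscheme_vanishingIdeal _
  have hs : Surjective i := ⟨Set.range_eq_univ.1 (by
    rw [Scheme.IdealSheafData.range_subschemeι, Scheme.support_nilradical]; rfl)⟩
  have hio := FlatMorThick.universallyOpen_of_thickening i
  obtain ⟨η, hη⟩ := i.surjective (genericPoint ↑Y)
  have hgen : ∀ z, η ⤳ z := fun z => by
    rw [← i.isClosedEmbedding.isEmbedding.isInducing.specializes_iff, hη]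
    exact genericPoint_specializes _
  obtain ⟨U, hU, hηU, -⟩ := exists_isAffineOpen_mem_and_subset
    (X := Y.nilradical.subscheme) (x := η) (U := ⊤) trivial
  let R := Γ(Y.nilradical.subscheme, U)
  let c : Spec R ⟶ Y.nilradical.subscheme := hU.fromSpec
  obtain ⟨η', hη'⟩ := hU.range_fromSpec.ge hηU
  haveI : IrreducibleSpace ↥Y.nilradical.subscheme :=
    (irreducibleSpace_def _).2 (by
      have : closure {η} = Set.univ :=
        Set.eq_univ_of_forall fun z => specializes_iff_mem_closure.1 (hgen z)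
      rw [Set.top_eq_univ, ← this]
      exact isIrreducible_singleton.closure)
  haveI : IsIntegral Y.nilradical.subscheme := isIntegral_of_irreducibleSpace_of_isReduced _
  haveI : Nonempty ↥(Spec R) := ⟨η'⟩
  haveI hint : IsIntegral (Spec R) := isIntegral_of_isOpenImmersion c
  haveI : IsDomain R := (affine_isIntegral_iff R).1 hint
  refine ⟨R, this, c ≫ i, η', (c ≫ i).isOpenMap, ?_, ?_⟩
  · have hsp : η' ⤳ (⟨⊥, Ideal.isPrime_bot⟩ : PrimeSpectrum R) := by
      rw [← c.isOpenEmbedding.isInducing.specializes_iff, hη']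
      exact hgen _
    exact le_bot_iff.1 ((PrimeSpectrum.le_iff_specializes _ _).2 hsp)
  · rw [Scheme.Hom.comp_apply, hη', hη]

/-- The geometric component counts are constant on a nonempty open of an irreducible base. -/
theorem exists_opens_forall_counts_eq {X Y : Scheme.{u}} (f : X ⟶ Y) [IrreducibleSpace ↑Y]
    [LocallyOfFiniteType f] [QuasiCompact f] :
    ∃ V : Y.Opens, (V : Set ↑Y).Nonempty ∧ ∀ y ∈ V,
      MoreMor.nGeomIrredComp f y = MoreMor.nGeomIrredComp f (genericPoint ↑Y) ∧
        MoreMor.nGeomConnComp f y = MoreMor.nGeomConnComp f (genericPoint ↑Y) := by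
  obtain ⟨R, _, c, η, hopen, hη, hcη⟩ := exists_integral_chart Y
  let f' := pullback.snd f c
  have hc := IsPullback.of_hasPullback f c
  haveI : LocallyOfFiniteType f' := MorphismProperty.pullback_snd _ _ inferInstance
  haveI : QuasiCompact f' := MorphismProperty.pullback_snd _ _ inferInstance
  obtain ⟨V, hVη, hV⟩ := exists_nhd_counts_of_Spec f' η hη
  refine ⟨⟨c '' (V : Set _), hopen _ V.isOpen⟩, ⟨_, η, hVη, rfl⟩, ?_⟩
  rintro _ ⟨y, hy, rfl⟩
  obtain ⟨b1, b2⟩ := counts_baseChange f f' _ c hc y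
  obtain ⟨c1, c2⟩ := counts_baseChange f f' _ c hc η
  obtain ⟨d1, d2⟩ := hV y hy
  rw [hcη] at c1 c2
  exact ⟨b1 ▸ d1.trans c1, b2 ▸ d2.trans c2⟩

end Groth.Agent.FlatMorGeomIrr

namespace Groth.Agent.FlatMorGeomIrr

/-- On the closure of a point, the counts are constant near it. -/
theorem exists_counts_const_near {X Y : Scheme.{u}} (f : X ⟶ Y) [LocallyOfFiniteType f]
    [QuasiCompact f] (y : Y) :
    ∃ V : Set ↑Y, V ⊆ closure {y} ∧ y ∈ V ∧
      IsOpen (Subtype.val ⁻¹' V : Set ↑(closure ({y} : Set ↑Y))) ∧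
      ∀ y' ∈ V, MoreMor.nGeomIrredComp f y' = MoreMor.nGeomIrredComp f y ∧
        MoreMor.nGeomConnComp f y' = MoreMor.nGeomConnComp f y := by
  let i := redι (X := Y) (isClosed_closure (s := ({y} : Set Y)))
  have hr : Set.range i = closure {y} := range_redι _
  have hemb : Topology.IsClosedEmbedding i := i.isClosedEmbedding
  obtain ⟨z, hz⟩ := hr.ge (subset_closure rfl)
  have hgen : ∀ w, z ⤳ w := fun w => by
    rw [← hemb.isEmbedding.isInducing.specializes_iff, hz]
    exact specializes_iff_mem_closure.2 (hr.le ⟨w, rfl⟩)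
  let W := (Scheme.IdealSheafData.vanishingIdeal (X := Y) ⟨closure {y}, isClosed_closure⟩).subscheme
  haveI : IrreducibleSpace ↥W := (irreducibleSpace_def _).2 (by
    rw [Set.top_eq_univ, ← Set.eq_univ_of_forall fun w => specializes_iff_mem_closure.1 (hgen w)]
    exact isIrreducible_singleton.closure)
  have hgp : genericPoint ↥W = z :=
    (genericPoint_spec _).eq (isGenericPoint_iff_specializes.2 fun w => iff_of_true (hgen w) trivial)
  let f' := pullback.snd f i
  haveI : LocallyOfFiniteType f' := MorphismProperty.pullback_snd _ _ inferInstance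
  haveI : QuasiCompact f' := MorphismProperty.pullback_snd _ _ inferInstance
  obtain ⟨V, hV, hc⟩ := exists_opens_forall_counts_eq f'
  have hb := IsPullback.of_hasPullback f i
  have hzV : z ∈ V := by
    obtain ⟨w, hw⟩ := hV
    exact (hgen w).mem_open V.isOpen hw
  refine ⟨i '' (V : Set W), fun _ ⟨w, _, h⟩ => h ▸ hr.le ⟨w, rfl⟩, ⟨z, hzV, hz⟩, ?_, ?_⟩
  · obtain ⟨U, hU, hUV⟩ := hemb.isEmbedding.isInducing.isOpen_iff.1 V.isOpen
    refine ⟨U, hU, ?_⟩
    rw [← hUV, Set.image_preimage_eq_inter_range, hr]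
    ext w
    simp [w.2]
  · rintro _ ⟨w, hw, rfl⟩
    obtain ⟨b1, b2⟩ := counts_baseChange f f' _ i hb w
    obtain ⟨c1, c2⟩ := counts_baseChange f f' _ i hb z
    obtain ⟨d1, d2⟩ := hc w hw
    rw [hgp] at d1 d2
    rw [hz] at c1 c2
    exact ⟨b1 ▸ d1.trans c1, b2 ▸ d2.trans c2⟩

end Groth.Agent.FlatMorGeomIrr
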