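import Mathlib

/-! An integral affine variety over a perfect field is birational to a hypersurface. -/

universe u v

open MvPolynomial

namespace Groth.Agent.FlatMorGeomIrr

/-- A prime of `R[Y]` meeting `R` in zero, with `R` a UFD, is principal. -/
theorem exists_eq_span_of_comap_eq_bot {R : Type u} [CommRing R] [IsDomain R]
    [UniqueFactorizationMonoid R] (P : Ideal (Polynomial R)) [P.IsPrime] (hP : P ≠ ⊥)
    (h0 : ∀ c : R, Polynomial.C c ∈ P → c = 0) :
    ∃ f : Polynomial R, Irreducible f ∧ f ∈ P ∧ ∀ q ∈ P, f ∣ q := by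
  obtain ⟨f, hfP, hf⟩ := Ideal.IsPrime.exists_mem_prime_of_ne_bot (I := P) inferInstance hP
  have hfi := hf.irreducible
  have hdeg : f.natDegree ≠ 0 := fun hd => hf.ne_zero (by
    rw [Polynomial.eq_C_of_natDegree_eq_zero hd] at hfP ⊢
    rw [h0 _ hfP, map_zero])
  have hprim := hfi.isPrimitive hdeg
  let K := FractionRing R
  have hfK := hprim.irreducible_iff_irreducible_map_fraction_map (K := K).1 hfi
  refine ⟨f, hfi, hfP, fun q hq => ?_⟩
  by_contra hdvd
  have hK : ¬ f.map (algebraMap R K) ∣ q.map (algebraMap R K) := fun h =>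
    hdvd (hprim.dvd_of_fraction_map_dvd_fraction_map h)
  obtain ⟨a, b, hab⟩ := (hfK.coprime_iff_not_dvd.2 hK)
  obtain ⟨⟨c₁, hc₁⟩, hA⟩ := IsLocalization.integerNormalization_map_to_map (nonZeroDivisors R) a
  obtain ⟨⟨c₂, hc₂⟩, hB⟩ := IsLocalization.integerNormalization_map_to_map (nonZeroDivisors R) b
  set A₀ := IsLocalization.integerNormalization (nonZeroDivisors R) a
  set B₀ := IsLocalization.integerNormalization (nonZeroDivisors R) b
  have key : Polynomial.C c₂ * A₀ * f + Polynomial.C c₁ * B₀ * q = Polynomial.C (c₁ * c₂) := by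
    apply Polynomial.map_injective (algebraMap R K) (IsFractionRing.injective R K)
    rw [Polynomial.map_add, Polynomial.map_mul, Polynomial.map_mul, Polynomial.map_mul,
      Polynomial.map_mul, hA, hB, Polynomial.map_C, Polynomial.map_C, Polynomial.map_C]
    simp only [Algebra.smul_def, Polynomial.algebraMap_eq, IsScalarTower.algebraMap_apply R K (Polynomial K),
      map_mul]
    linear_combination (Polynomial.C (algebraMap R K c₁) * Polynomial.C (algebraMap R K c₂)) * hab
  have hmem : Polynomial.C (c₁ * c₂) ∈ P :=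
    key ▸ P.add_mem (P.mul_mem_left _ hfP) (P.mul_mem_left _ hq)
  exact mul_ne_zero (nonZeroDivisors.ne_zero hc₁) (nonZeroDivisors.ne_zero hc₂) (h0 _ hmem)

section

variable (k : Type u) {L : Type u} [Field k] [Field L] [Algebra k L]

open IntermediateField

/-- For a perfect field, a separating transcendence basis may be chosen among given generators. -/
theorem exists_separating_subset [PerfectField k] {σ : Type v} [Finite σ] (x : σ → L)
    (hx : adjoin k (Set.range x) = ⊤) :
    ∃ s : Finset L, ↑s ⊆ Set.range x ∧ IsTranscendenceBasis k ((↑) : s → L) ∧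
      Algebra.IsSeparable (adjoin k (s : Set L)) L := by
  classical
  have halg : Algebra.IsAlgebraic (Algebra.adjoin k (Set.range x)) L := by
    rw [← isAlgebraic_adjoin_iff_top, hx, Algebra.isAlgebraic_iff_isIntegral]
    exact Algebra.isIntegral_of_surjective topEquiv.surjective
  obtain ⟨t, htx, ht⟩ := exists_isTranscendenceBasis_subset (R := k) (Set.range x)
  lift t to Finset L using (Set.finite_range x).subset htx
  obtain _ | ⟨p, hp, hpk⟩ := CharP.exists' k
  · have : Algebra.IsAlgebraic (adjoin k (t : Set L)) L := by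
      convert! ht.isAlgebraic_field <;> simp
    exact ⟨t, htx, ht, inferInstance⟩
  have : ExpChar k p := .prime hp.out
  have : CharP L p := .of_ringHom_of_ne_zero (algebraMap k L) p hp.out.ne_zero
  have H : ∀ s : Finset L, LinearIndepOn k _root_.id (s : Set L) →
      LinearIndepOn k (· ^ p) (s : Set L) := by
    intro s hs
    apply hs.map_of_injective_injective (frobeniusEquiv k p).symm (frobenius L p).toAddMonoidHom <;>
      simp [frobenius_def, Algebra.smul_def, mul_pow, ← map_pow, frobeniusEquiv_symm_pow]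
  let 𝒮 := {s : Finset L | ↑s ⊆ Set.range x ∧ IsTranscendenceBasis k ((↑) : s → L)}
  have hfin : 𝒮.Finite := ((Set.finite_range x).toFinset.powerset.finite_toSet).subset fun s hs => by
    simpa [← Finset.coe_subset] using hs.1
  obtain ⟨s, ⟨hsx, hs⟩, Hs⟩ := hfin.exists_maximalFor
    (fun s : Finset L => (separableClosure (adjoin k (s : Set L)) L).restrictScalars k) 𝒮 ⟨t, htx, ht⟩
  have hmem : ∀ n, n ∈ Set.range x → n ∈ separableClosure (adjoin k (s : Set L)) L := by
    intro n hnx
    by_contra hn
    have hns : n ∉ (s : Set L) := fun h =>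
      hn (le_restrictScalars_separableClosure _ (subset_adjoin _ _ h))
    obtain ⟨i, hi₁, hi₂⟩ := exists_isTranscendenceBasis_and_isSeparable_of_linearIndepOn_pow'
      p hp.out (a := fun y : L => y) H (s : Set L) n hs hns
    rw [Set.image_id'] at hi₂
    lift (insert n (s : Set L) \ {i}) to Finset L using
      ((s.finite_toSet.insert n).sdiff) with s' hs'
    have hs'x : (s' : Set L) ⊆ Set.range x := by
      rw [hs']
      exact Set.sdiff_subset.trans (Set.insert_subset hnx hsx)
    have h2 : IsSeparable (adjoin k (s' : Set L)) i := by rw [hs']; exact hi₂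
    have h1 : IsTranscendenceBasis k ((↑) : s' → L) :=
      hi₁.comp_equiv (Equiv.setCongr hs')
    have hle := Hs (j := s') ⟨hs'x, h1⟩
    refine not_lt_iff_le_imp_ge.mpr hle (SetLike.lt_iff_le_and_exists.mpr ⟨?_, n, ?_, hn⟩)
    · rw [separableClosure_le_separableClosure_iff, adjoin_le_iff]
      intro y hy
      obtain rfl | ne := eq_or_ne y i
      · exact h2
      · exact le_restrictScalars_separableClosure _ (subset_adjoin _ _ (hs' ▸ ⟨.inr hy, ne⟩))
    · obtain rfl | ne := eq_or_ne n i
      · exact h2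
      · exact le_restrictScalars_separableClosure _ (subset_adjoin _ _ (hs' ▸ ⟨.inl rfl, ne⟩))
  refine ⟨s, hsx, hs, ?_⟩
  rw [← separableClosure.eq_top_iff, ← (restrictScalars_injective k).eq_iff,
    restrictScalars_top, eq_top_iff, ← hx, adjoin_le_iff]
  exact hmem

variable {k}

/-- Elements which become values of `φ` after multiplication by a nonzero polynomial in `t`. -/
theorem exists_mul_mem_range {R' : Type u} [CommRing R'] [Algebra k R'] (φ : R' →ₐ[k] L)
    {d : Type v} (t : d → L) (ht : ∀ j, t j ∈ φ.range) {z : L}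
    (hz : z ∈ Algebra.adjoin (adjoin k (Set.range t)) (Set.range φ)) :
    ∃ g : MvPolynomial d k, aeval t g ≠ 0 ∧ z * aeval t g ∈ φ.range := by
  have hle : (aeval t).range ≤ φ.range := by
    rw [← Algebra.adjoin_range_eq_range_aeval, Algebra.adjoin_le_iff]
    rintro _ ⟨j, rfl⟩
    exact ht j
  have hmem : ∀ g : MvPolynomial d k, aeval t g ∈ φ.range := fun g => hle ⟨g, rfl⟩
  induction hz using Algebra.adjoin_induction with
  | mem y hy => exact ⟨1, by simp, by obtain ⟨r, rfl⟩ := hy; exact ⟨r, by simp⟩⟩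
  | algebraMap c =>
    obtain ⟨r, q, hq⟩ := mem_adjoin_range_iff _ _ _ |>.1 c.2
    by_cases hq0 : aeval t q = 0
    · refine ⟨1, by simp, 0, ?_⟩
      show φ 0 = (c : L) * aeval t 1
      simp [hq, hq0]
    · refine ⟨q, hq0, ?_⟩
      show (c : L) * _ ∈ _
      rw [hq, div_mul_cancel₀ _ hq0]
      exact hmem r
  | add y z _ _ hy hz =>
    obtain ⟨g, hg, hgy⟩ := hy
    obtain ⟨g', hg', hgz⟩ := hz
    refine ⟨g * g', by simp [hg, hg'], ?_⟩
    have : (y + z) * aeval t (g * g') = y * aeval t g * aeval t g' + z * aeval t g' * aeval t g := by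
      rw [map_mul]; ring
    rw [this]
    exact add_mem (mul_mem hgy (hmem g')) (mul_mem hgz (hmem g))
  | mul y z _ _ hy hz =>
    obtain ⟨g, hg, hgy⟩ := hy
    obtain ⟨g', hg', hgz⟩ := hz
    refine ⟨g * g', by simp [hg, hg'], ?_⟩
    have : y * z * aeval t (g * g') = (y * aeval t g) * (z * aeval t g') := by rw [map_mul]; ring
    rw [this]
    exact mul_mem hgy hgz

theorem adjoin_range_eq_top {R' : Type u} [CommRing R'] [Algebra k R'] (φ : R' →ₐ[k] L)
    (F : IntermediateField k L) [Algebra.IsAlgebraic F L] (S : Set L)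
    (hS : adjoin k S = ⊤) (hSφ : S ⊆ Algebra.adjoin F (Set.range φ)) :
    Algebra.adjoin F (Set.range φ) = ⊤ := by
  have h1 : adjoin F (Set.range φ) = ⊤ := by
    rw [eq_top_iff]
    intro z _
    have hz : z ∈ adjoin k S := hS ▸ mem_top
    suffices h : adjoin k S ≤ (adjoin F (Set.range φ)).restrictScalars k from h hz
    rw [adjoin_le_iff]
    exact hSφ.trans (fun y hy => algebra_adjoin_le_adjoin F (Set.range φ) hy)
  rw [← IntermediateField.adjoin_toSubalgebra (F := F) (E := L) (Set.range φ), h1, top_toSubalgebra]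

end

/-- Birational model: an integral affine variety over a perfect field is birational to a
hypersurface. -/
theorem exists_birational {k : Type u} [Field k] [PerfectField k] {σ : Type} [Finite σ]
    (P : Ideal (MvPolynomial σ k)) [P.IsPrime] :
    ∃ (d : ℕ) (f g : MvPolynomial (Fin (d + 1)) k) (v : Fin (d + 1) → MvPolynomial σ k)
      (r : σ → MvPolynomial (Fin (d + 1)) k), Irreducible f ∧ ¬ f ∣ g ∧ aeval v f ∈ P ∧
      (∀ i, aeval v g * X i - aeval v (r i) ∈ P) ∧ ∀ q, aeval v q ∈ P → f ∣ q := by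
  classical
  let L := FractionRing (MvPolynomial σ k ⧸ P)
  let ev : MvPolynomial σ k →ₐ[k] L := (IsScalarTower.toAlgHom k _ L).comp (Ideal.Quotient.mkₐ k P)
  have hev : ∀ q, ev q = 0 ↔ q ∈ P := fun q =>
    (map_eq_zero_iff _ (IsFractionRing.injective (MvPolynomial σ k ⧸ P) L)).trans
      Ideal.Quotient.eq_zero_iff_mem
  let x : σ → L := fun i => ev (X i)
  have hevx : ev = aeval x := MvPolynomial.algHom_ext fun i => by simp [x]
  have hx : IntermediateField.adjoin k (Set.range x) = ⊤ := by
    rw [eq_top_iff]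
    intro z _
    obtain ⟨a, b, -, rfl⟩ := IsFractionRing.div_surjective (A := MvPolynomial σ k ⧸ P) z
    obtain ⟨a, rfl⟩ := Ideal.Quotient.mk_surjective a
    obtain ⟨b, rfl⟩ := Ideal.Quotient.mk_surjective b
    refine (IntermediateField.mem_adjoin_range_iff _ _ _).2 ⟨a, b, ?_⟩
    show ev a / ev b = _
    rw [hevx]
  obtain ⟨s, hsx, hs, hsep⟩ := exists_separating_subset k x hx
  let d := Fintype.card s
  let t : Fin d → L := fun j => (((Fintype.equivFin s).symm j : s) : L)
  have ht : IsTranscendenceBasis k t := hs.comp_equiv (Fintype.equivFin s).symm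
  have htr : Set.range t = (s : Set L) := by
    show Set.range (((↑) : s → L) ∘ _) = _
    rw [Set.range_comp, (Fintype.equivFin s).symm.surjective.range_eq, Set.image_univ]
    simp
  let F := IntermediateField.adjoin k (Set.range t)
  haveI : Algebra.IsSeparable F L := by
    show Algebra.IsSeparable (IntermediateField.adjoin k (Set.range t)) L
    rw [htr]; exact hsep
  haveI : Algebra.IsAlgebraic F L := Algebra.IsSeparable.isAlgebraic F L
  haveI : FiniteDimensional F L := by
    have h : IntermediateField.adjoin F (Set.range x) = ⊤ := by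
      apply IntermediateField.restrictScalars_injective k
      rw [IntermediateField.restrictScalars_top, eq_top_iff, ← hx, IntermediateField.adjoin_le_iff]
      exact IntermediateField.subset_adjoin F _
    have := IntermediateField.finiteDimensional_adjoin (K := F) (S := Set.range x)
      (fun a _ => Algebra.IsIntegral.isIntegral a)
    rw [h] at this
    exact IntermediateField.topEquiv.toLinearEquiv.finiteDimensional
  have hte : ∀ j, t j ∈ ev.range := fun j => by
    obtain ⟨i, hi⟩ := hsx (htr.le ⟨j, rfl⟩)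
    exact ⟨X i, hi⟩
  have htop : Algebra.adjoin F (Set.range ev) = ⊤ := adjoin_range_eq_top ev F (Set.range x) hx
    fun _ ⟨i, hi⟩ => Algebra.subset_adjoin ⟨X i, hi⟩
  obtain ⟨θ₀, hθ₀⟩ := Field.exists_primitive_element F L
  obtain ⟨g₀, hg₀, θr, hθr⟩ := exists_mul_mem_range ev t hte (htop ▸ Algebra.mem_top (x := θ₀))
  let θ : L := ev θr
  have hgF : aeval t g₀ ∈ F := IntermediateField.algebra_adjoin_le_adjoin _ _
    (Algebra.adjoin_range_eq_range_aeval k t ▸ ⟨g₀, rfl⟩)
  choose i hi using fun j => hsx (htr.le ⟨j, rfl⟩ : t j ∈ (s : Set L))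
  let w : Fin (d + 1) → L := Fin.cons θ t
  let φ : MvPolynomial (Fin (d + 1)) k →ₐ[k] L := aeval w
  have htφ : ∀ j, t j ∈ φ.range := fun j => ⟨X j.succ, by simp [φ, w]⟩
  have htopφ : Algebra.adjoin F (Set.range φ) = ⊤ := by
    refine adjoin_range_eq_top φ F ({θ₀} ∪ Set.range t) ?_ ?_
    · rw [Set.union_comm, ← IntermediateField.adjoin_adjoin_left]
      show (IntermediateField.adjoin F {θ₀}).restrictScalars k = ⊤
      rw [hθ₀, IntermediateField.restrictScalars_top]
    · rintro y (hy | ⟨j, rfl⟩)
      · have h1 : θ ∈ Algebra.adjoin F (Set.range φ) :=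
          Algebra.subset_adjoin ⟨X 0, by simp [φ, w]⟩
        have h2 : θ₀ = θ * algebraMap F L (⟨aeval t g₀, hgF⟩⁻¹ : F) := by
          show θ₀ = ev θr * _
          have hθr' : ev θr = θ₀ * aeval t g₀ := hθr
          rw [hθr', map_inv₀]
          exact (mul_inv_cancel_right₀ hg₀ θ₀).symm
        rw [Set.mem_singleton_iff.1 hy, h2]
        exact mul_mem h1 (Subalgebra.algebraMap_mem _ _)
      · exact Algebra.subset_adjoin (htφ j)
  choose g hg r hr using fun a : σ => exists_mul_mem_range φ t htφ (htopφ ▸ Algebra.mem_top (x := x a))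
  haveI := Fintype.ofFinite σ
  let G : MvPolynomial (Fin d) k := ∏ a, g a
  let ρ : MvPolynomial (Fin d) k →ₐ[k] MvPolynomial (Fin (d + 1)) k := rename Fin.succ
  have hρ : ∀ q, φ (ρ q) = aeval t q := fun q => by
    show aeval w (rename Fin.succ q) = _
    rw [aeval_rename]
    congr 2
  let P₀ : Ideal (MvPolynomial (Fin (d + 1)) k) := RingHom.ker φ
  let e := finSuccEquiv k d
  let P₁ : Ideal (Polynomial (MvPolynomial (Fin d) k)) := P₀.map e
  haveI : P₀.IsPrime := RingHom.ker_isPrime _
  haveI : P₁.IsPrime := Ideal.map_isPrime_of_equiv e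
  have hmem : ∀ q, q ∈ P₁ ↔ φ (e.symm q) = 0 := fun q => by
    refine (Ideal.mem_map_iff_of_surjective _ e.surjective).trans ⟨?_, fun h => ⟨_, h, e.apply_symm_apply q⟩⟩
    rintro ⟨y, hy, rfl⟩
    rw [e.symm_apply_apply]
    exact hy
  have hC : ∀ c, e.symm (Polynomial.C c) = ρ c := fun c => by
    apply e.injective
    rw [e.apply_symm_apply]
    refine AlgHom.congr_fun (φ₁ := (IsScalarTower.toAlgHom k _ (Polynomial (MvPolynomial (Fin d) k))))
      (φ₂ := e.toAlgHom.comp ρ) (MvPolynomial.algHom_ext fun j => ?_) c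
    simp [e, ρ, finSuccEquiv_X_succ]
  have hP₁ : P₁ ≠ ⊥ := by
    intro h
    have hinj : Function.Injective φ := (injective_iff_map_eq_zero φ).2 fun q hq => by
      have h1 : e q ∈ P₁ := Ideal.mem_map_of_mem _ hq
      rw [h, Ideal.mem_bot] at h1
      simpa using h1
    have hind : AlgebraicIndependent k w := algebraicIndependent_iff_injective_aeval.2 hinj
    have h1 := hind.lift_cardinalMk_le_trdeg
    rw [← ht.lift_cardinalMk_eq_trdeg] at h1
    rw [Cardinal.mk_fin, Cardinal.mk_fin, Cardinal.lift_natCast, Cardinal.lift_natCast, Nat.cast_le] at h1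
    omega
  obtain ⟨f, hf, hfP, hdvd⟩ := exists_eq_span_of_comap_eq_bot P₁ hP₁ fun c hc => by
    rw [hmem, hC, hρ] at hc
    exact ht.1.eq_zero_of_aeval_eq_zero c hc
  let v : Fin (d + 1) → MvPolynomial σ k := Fin.cons θr fun j => X (i j)
  have hφv : ∀ q, φ q = ev (aeval v q) := by
    refine AlgHom.congr_fun (φ₂ := ev.comp (aeval v)) (MvPolynomial.algHom_ext fun j => ?_)
    refine Fin.cases ?_ (fun j => ?_) j
    · simp [φ, w, v, θ]
    · simp [φ, w, v]
      exact (hi j).symm
  refine ⟨d, e.symm f, ρ G, v, fun a => r a * ρ (∏ b ∈ Finset.univ.erase a, g b),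
    (MulEquiv.irreducible_iff e.symm.toRingEquiv.toMulEquiv).2 hf, ?_, ?_, fun a => ?_,
    fun q hq => ?_⟩
  · rintro ⟨c, hc⟩
    have := congrArg φ hc
    rw [hρ, map_mul, (hmem f).1 hfP, zero_mul, map_prod] at this
    exact Finset.prod_ne_zero_iff.2 (fun a _ => hg a) this
  · rw [← hev, ← hφv]
    exact (hmem f).1 hfP
  · have hr' : φ (r a) = x a * aeval t (g a) := hr a
    rw [← hev, map_sub, map_mul, ← hφv, ← hφv, map_mul, hρ, hρ, hr',
      show G = g a * ∏ b ∈ Finset.univ.erase a, g b from
        (Finset.mul_prod_erase _ _ (Finset.mem_univ a)).symm, map_mul]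
    show aeval t (g a) * _ * x a - _ = 0
    ring
  · rw [← hev, ← hφv] at hq
    have : e q ∈ P₁ := Ideal.mem_map_of_mem _ hq
    simpa using map_dvd e.symm (hdvd _ this)

end Groth.Agent.FlatMorGeomIrr
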