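import Mathlib

/-! Absolutely irreducible polynomials stay irreducible at almost all specializations. -/

universe u v w

open MvPolynomial

set_option synthInstance.maxHeartbeats 100000

namespace Groth.Agent.FlatMorGeomIrr

/-- If a system of polynomial equations over a domain has no solution in an algebraically closed
field containing it, then it has no solution in any field where some nonzero scalar is invertible. -/
theorem exists_ne_zero_forall_no_common_zero {A : Type u} [CommRing A] [IsDomain A] {Ω : Type v}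
    [Field Ω] [IsAlgClosed Ω] (ι : A →+* Ω) (hι : Function.Injective ι) {V : Type w} [Finite V]
    (S : Set (MvPolynomial V A)) (h : ∀ x : V → Ω, ∃ s ∈ S, eval₂ ι x s ≠ 0) :
    ∃ a : A, a ≠ 0 ∧ ∀ (κ : Type u) [Field κ] (ψ : A →+* κ), ψ a ≠ 0 →
      ∀ x : V → κ, ∃ s ∈ S, eval₂ ψ x s ≠ 0 := by
  by_cases hex : ∃ a : A, a ≠ 0 ∧ C a ∈ Ideal.span S
  · obtain ⟨a, ha, haS⟩ := hex
    refine ⟨a, ha, fun κ _ ψ hψ x => ?_⟩
    by_contra! hs
    have : Ideal.span S ≤ RingHom.ker (eval₂Hom ψ x) := Ideal.span_le.2 hs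
    exact hψ (by simpa using this haS)
  push Not at hex
  exfalso
  letI := algebraMvPolynomial (σ := V) (R := A) (S := FractionRing A)
  have hdisj : Disjoint (((nonZeroDivisors A).map (C (σ := V))) : Set (MvPolynomial V A))
      (Ideal.span S : Set (MvPolynomial V A)) := by
    refine Set.disjoint_left.2 ?_
    rintro _ ⟨a, ha, rfl⟩ h'
    exact hex a (nonZeroDivisors.ne_zero ha) h'
  have htop : (Ideal.span S).map (algebraMap (MvPolynomial V A) (MvPolynomial V (FractionRing A))) ≠ ⊤ :=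
    (IsLocalization.map_algebraMap_ne_top_iff_disjoint ((nonZeroDivisors A).map (C (σ := V))) _ _).2
      hdisj
  obtain ⟨M, hM, hle⟩ := Ideal.exists_le_maximal _ htop
  let K := FractionRing A
  letI := Ideal.Quotient.field M
  haveI : Algebra.FiniteType K (MvPolynomial V K) := inferInstance
  haveI : Module.Finite K (MvPolynomial V K ⧸ M) := finite_of_finite_type_of_isJacobsonRing K _
  letI : Algebra K Ω := (IsFractionRing.lift hι).toAlgebra
  let e : (MvPolynomial V K ⧸ M) →ₐ[K] Ω := IsAlgClosed.lift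
  let x : V → Ω := fun i => e (Ideal.Quotient.mk M (X i))
  obtain ⟨s, hs, hne⟩ := h x
  apply hne
  have hfac : eval₂Hom ι x = (e.toRingHom.comp ((Ideal.Quotient.mk M).comp
      (algebraMap (MvPolynomial V A) (MvPolynomial V K)))) := by
    refine MvPolynomial.ringHom_ext (fun a => ?_) (fun i => ?_)
    · rw [eval₂Hom_C]
      show _ = e (Ideal.Quotient.mk M (MvPolynomial.map (algebraMap A K) (C a)))
      rw [map_C]
      exact ((e.commutes (algebraMap A K a)).trans (IsFractionRing.lift_algebraMap hι a)).symm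
    · rw [eval₂Hom_X']
      show _ = e (Ideal.Quotient.mk M (MvPolynomial.map (algebraMap A K) (X i)))
      rw [map_X]
  show eval₂Hom ι x s = 0
  rw [hfac]
  show e (Ideal.Quotient.mk M _) = 0
  rw [Ideal.Quotient.eq_zero_iff_mem.2 (hle (Ideal.mem_map_of_mem _ (Ideal.subset_span hs))), map_zero]

section

variable (σ : Type w) [Fintype σ] [DecidableEq σ]

/-- The exponents of total degree at most `e`. -/
noncomputable def expLE (e : ℕ) : Finset (σ →₀ ℕ) :=
  ((Fintype.piFinset fun _ : σ => Finset.range (e + 1)).map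
    Finsupp.equivFunOnFinite.symm.toEmbedding).filter fun m => (m.sum fun _ n => n) ≤ e

variable {σ}

theorem mem_expLE {e : ℕ} {m : σ →₀ ℕ} : m ∈ expLE σ e ↔ (m.sum fun _ n => n) ≤ e := by
  refine ⟨fun h => (Finset.mem_filter.1 h).2, fun h => Finset.mem_filter.2 ⟨?_, h⟩⟩
  refine Finset.mem_map.2 ⟨⇑m, Fintype.mem_piFinset.2 fun i => Finset.mem_range.2 ?_, by simp⟩
  by_cases hi : i ∈ m.support
  · have := Finset.single_le_sum (f := fun i => m i) (fun _ _ => Nat.zero_le _) hi
    rw [Finsupp.sum] at h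
    omega
  · rw [Finsupp.notMem_support_iff.1 hi]; omega

/-- The generic polynomial of degree at most `e` with coefficients among the variables. -/
noncomputable def genPoly (A : Type u) [CommRing A] {V : Type v} (e : ℕ)
    (j : {m // m ∈ expLE σ e} → V) : MvPolynomial σ (MvPolynomial V A) :=
  ∑ m : {m // m ∈ expLE σ e}, monomial (m : σ →₀ ℕ) (X (j m))

theorem map_genPoly {A B : Type*} [CommRing A] [CommRing B] {V : Type v} (φ : A →+* B) (x : V → B)
    (e : ℕ) (j : {m // m ∈ expLE σ e} → V) :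
    map (eval₂Hom φ x) (genPoly A e j) = ∑ m : {m // m ∈ expLE σ e}, monomial (m : σ →₀ ℕ) (x (j m)) := by
  simp [genPoly]

theorem totalDegree_sum_monomial_le {B : Type*} [CommRing B] (e : ℕ)
    (c : {m // m ∈ expLE σ e} → B) :
    (∑ m : {m // m ∈ expLE σ e}, monomial (m : σ →₀ ℕ) (c m)).totalDegree ≤ e := by
  refine (totalDegree_finsetSum _ _).trans (Finset.sup_le fun m _ => ?_)
  by_cases hc : c m = 0
  · simp [hc]
  · rw [totalDegree_monomial _ hc]
    exact mem_expLE.1 m.2

theorem sum_monomial_coeff_eq {B : Type*} [CommRing B] {e : ℕ} {g : MvPolynomial σ B}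
    (hg : g.totalDegree ≤ e) :
    ∑ m : {m // m ∈ expLE σ e}, monomial (m : σ →₀ ℕ) (coeff (m : σ →₀ ℕ) g) = g := by
  rw [Finset.univ_eq_attach, Finset.sum_attach (expLE σ e) (fun m => monomial m (coeff m g))]
  conv_rhs => rw [g.as_sum]
  refine (Finset.sum_subset (fun m hm => mem_expLE.2 ((le_totalDegree hm).trans hg)) ?_).symm
  intro m _ hm
  rw [notMem_support_iff.1 hm, monomial_zero]

/-- The universal factorisation system of `P` in degrees `e` and `e'`. -/
noncomputable def facSys {A : Type u} [CommRing A] (P : MvPolynomial σ A) (e e' : ℕ) :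
    MvPolynomial σ (MvPolynomial ({m // m ∈ expLE σ e} ⊕ {m // m ∈ expLE σ e'}) A) :=
  genPoly A e Sum.inl * genPoly A e' Sum.inr - map C P

theorem map_facSys {A : Type u} {B : Type*} [CommRing A] [CommRing B] (P : MvPolynomial σ A)
    (e e' : ℕ) (φ : A →+* B) (x : {m // m ∈ expLE σ e} ⊕ {m // m ∈ expLE σ e'} → B) :
    map (eval₂Hom φ x) (facSys P e e') =
      (∑ m : {m // m ∈ expLE σ e}, monomial (m : σ →₀ ℕ) (x (Sum.inl m))) *
      (∑ m : {m // m ∈ expLE σ e'}, monomial (m : σ →₀ ℕ) (x (Sum.inr m))) - map φ P := by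
  rw [facSys, map_sub, map_mul, map_genPoly, map_genPoly, MvPolynomial.map_map]
  have h : (eval₂Hom φ x).comp C = φ := RingHom.ext fun a => eval₂Hom_C φ x a
  rw [h]

/-- No factorisation of bounded degrees at almost all specializations. -/
theorem exists_forall_mul_ne {A : Type u} [CommRing A] [IsDomain A] {Ω : Type v} [Field Ω]
    [IsAlgClosed Ω] (ι : A →+* Ω) (hι : Function.Injective ι) (P : MvPolynomial σ A) (e e' : ℕ)
    (h : ∀ g k : MvPolynomial σ Ω, g.totalDegree ≤ e → k.totalDegree ≤ e' → g * k ≠ map ι P) :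
    ∃ a : A, a ≠ 0 ∧ ∀ (κ : Type u) [Field κ] (ψ : A →+* κ), ψ a ≠ 0 →
      ∀ g k : MvPolynomial σ κ, g.totalDegree ≤ e → k.totalDegree ≤ e' → g * k ≠ map ψ P := by
  obtain ⟨a, ha, hκ⟩ := exists_ne_zero_forall_no_common_zero ι hι
    (Set.range fun m : σ →₀ ℕ => coeff m (facSys P e e')) (fun x => by
      by_contra! hz
      refine h _ _ (totalDegree_sum_monomial_le e fun m => x (Sum.inl m))
        (totalDegree_sum_monomial_le e' fun m => x (Sum.inr m))
        (sub_eq_zero.1 ((map_facSys P e e' ι x).symm.trans ?_))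
      ext m
      rw [coeff_map, coeff_zero]
      exact hz _ ⟨m, rfl⟩)
  refine ⟨a, ha, fun κ _ ψ hψ g k hg hk heq => ?_⟩
  let y : {m // m ∈ expLE σ e} ⊕ {m // m ∈ expLE σ e'} → κ :=
    Sum.elim (fun m => coeff (m : σ →₀ ℕ) g) (fun m => coeff (m : σ →₀ ℕ) k)
  obtain ⟨_, ⟨m, rfl⟩, hne⟩ := hκ κ ψ hψ y
  apply hne
  have h1 := map_facSys P e e' ψ y
  simp only [y, Sum.elim_inl, Sum.elim_inr] at h1
  rw [sum_monomial_coeff_eq hg, sum_monomial_coeff_eq hk, heq, sub_self] at h1
  have h2 := congrArg (coeff m) h1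
  rw [coeff_map, coeff_zero] at h2
  exact h2

end

theorem exists_coeff_ne_zero_of_not_isUnit {Ω : Type v} [Field Ω] {σ : Type w}
    {p : MvPolynomial σ Ω} (h0 : p ≠ 0) (h : ¬ IsUnit p) :
    ∃ m : σ →₀ ℕ, m ≠ 0 ∧ coeff m p ≠ 0 := by
  classical
  by_contra! hc
  apply h
  have hp : p = C (coeff 0 p) := by
    ext m
    rw [coeff_C]
    split_ifs with hm
    · rw [hm]
    · exact hc m (Ne.symm hm)
  rw [hp]
  refine (IsUnit.mk0 _ fun h' => h0 ?_).map C
  rw [hp, h', map_zero]

theorem totalDegree_pos_of_not_isUnit {Ω : Type v} [Field Ω] {σ : Type w}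
    {p : MvPolynomial σ Ω} (h0 : p ≠ 0) (h : ¬ IsUnit p) : 0 < p.totalDegree := by
  classical
  by_contra hd
  rw [not_lt, Nat.le_zero, totalDegree_eq_zero_iff_eq_C] at hd
  obtain ⟨m, hm, hm'⟩ := exists_coeff_ne_zero_of_not_isUnit h0 h
  rw [hd, coeff_C, if_neg (Ne.symm hm)] at hm'
  exact hm' rfl

/-- An absolutely irreducible polynomial is irreducible at almost all specializations. -/
theorem exists_forall_irreducible_map {A : Type u} [CommRing A] [IsDomain A] {Ω : Type v} [Field Ω]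
    [IsAlgClosed Ω] (ι : A →+* Ω) (hι : Function.Injective ι) {σ : Type w} [Finite σ]
    (P : MvPolynomial σ A) (hP : Irreducible (map ι P)) :
    ∃ a : A, a ≠ 0 ∧ ∀ (κ : Type u) [Field κ] (ψ : A →+* κ), ψ a ≠ 0 →
      Irreducible (map ψ P) := by
  classical
  cases nonempty_fintype σ
  obtain ⟨m₀, hm₀, hc₀⟩ := exists_coeff_ne_zero_of_not_isUnit hP.ne_zero hP.not_isUnit
  rw [coeff_map] at hc₀
  let D := (map ι P).totalDegree
  have hD : P.totalDegree = D := by
    show _ = (map ι P).totalDegree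
    rw [totalDegree, totalDegree, support_map_of_injective _ hι]
  have hbad : ∀ e : ℕ, 1 ≤ e → e < D → ∀ g k : MvPolynomial σ Ω, g.totalDegree ≤ e →
      k.totalDegree ≤ D - e → g * k ≠ map ι P := by
    intro e he heD g k hg hk heq
    have hg0 : g ≠ 0 := fun h => hP.ne_zero (by rw [← heq, h, zero_mul])
    have hk0 : k ≠ 0 := fun h => hP.ne_zero (by rw [← heq, h, mul_zero])
    have hdeg : g.totalDegree + k.totalDegree = D := by
      rw [← totalDegree_mul_of_isDomain hg0 hk0, heq]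
    rcases hP.isUnit_or_isUnit heq.symm with hu | hu
    · obtain ⟨c, -, hc⟩ := isUnit_iff_eq_C_of_isReduced.1 hu
      rw [hc, totalDegree_C] at hdeg; omega
    · obtain ⟨c, -, hc⟩ := isUnit_iff_eq_C_of_isReduced.1 hu
      rw [hc, totalDegree_C] at hdeg; omega
  choose a ha hκ using fun e : {e : ℕ // e ∈ Finset.Ico 1 D} =>
    exists_forall_mul_ne ι hι P e.1 (D - e.1)
      (hbad e.1 (Finset.mem_Ico.1 e.2).1 (Finset.mem_Ico.1 e.2).2)
  refine ⟨coeff m₀ P * ∏ e, a e, mul_ne_zero (fun h => hc₀ (by rw [h, map_zero]))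
    (Finset.prod_ne_zero_iff.2 fun e _ => ha e), fun κ _ ψ hψ => ?_⟩
  rw [map_mul, mul_ne_zero_iff, map_prod, Finset.prod_ne_zero_iff] at hψ
  refine ⟨fun hu => ?_, fun g k hgk => ?_⟩
  · obtain ⟨c, -, hc⟩ := isUnit_iff_eq_C_of_isReduced.1 hu
    have := congrArg (coeff m₀) hc
    rw [coeff_map, coeff_C, if_neg (Ne.symm hm₀)] at this
    exact hψ.1 this
  by_contra! hgk'
  have h0 : map ψ P ≠ 0 := fun h => hψ.1 (by rw [← coeff_map, h, coeff_zero])
  have hg0 : g ≠ 0 := fun h => h0 (by rw [hgk, h, zero_mul])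
  have hk0 : k ≠ 0 := fun h => h0 (by rw [hgk, h, mul_zero])
  have hdeg : g.totalDegree + k.totalDegree ≤ D := by
    rw [← totalDegree_mul_of_isDomain hg0 hk0, ← hgk, ← hD]
    exact Finset.sup_mono (support_map_subset ψ P)
  have h1 := totalDegree_pos_of_not_isUnit hg0 hgk'.1
  have h2 := totalDegree_pos_of_not_isUnit hk0 hgk'.2
  exact hκ ⟨g.totalDegree, Finset.mem_Ico.2 ⟨h1, by omega⟩⟩ κ ψ (hψ.2 _ (Finset.mem_univ _))
    g k le_rfl (show k.totalDegree ≤ D - g.totalDegree by omega) hgk.symm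

end Groth.Agent.FlatMorGeomIrr
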