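import Mathlib

/-! Base change of quotients of polynomial rings. -/

universe u v w

open MvPolynomial
open scoped TensorProduct

namespace Groth.Agent.FlatMorGeomIrr

set_option backward.isDefEq.respectTransparency false

variable {A : Type u} [CommRing A] {σ : Type w} (K : Type v) [CommRing K] [Algebra A K]
  (J : Ideal (MvPolynomial σ A))

/-- The extension of an ideal of polynomials to a new base. -/
noncomputable abbrev extIdeal : Ideal (MvPolynomial σ K) := J.map (MvPolynomial.map (algebraMap A K))

/-- Base change of a quotient of a polynomial ring. -/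
noncomputable def quotBC : K ⊗[A] (MvPolynomial σ A ⧸ J) ≃ₐ[K] MvPolynomial σ K ⧸ extIdeal K J :=
  (Algebra.TensorProduct.tensorQuotientEquiv (R := A) K (MvPolynomial σ A) K J).trans
    (Ideal.quotientEquivAlg _ _ (MvPolynomial.algebraTensorAlgEquiv A K) (by
      unfold extIdeal
      refine Eq.trans ?_ (Ideal.map_map (I := J)
        (Algebra.TensorProduct.includeRight (R := A) (A := K) (B := MvPolynomial σ A)).toRingHom
        (MvPolynomial.algebraTensorAlgEquiv A K (σ := σ)).toAlgHom.toRingHom).symm
      congr 1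
      refine RingHom.ext fun p => ?_
      exact ((MvPolynomial.algebraTensorAlgEquiv_tmul A K 1 p).trans (one_smul _ _)).symm))

theorem quotBC_tmul (c : K) (p : MvPolynomial σ A) :
    quotBC K J (c ⊗ₜ Ideal.Quotient.mk J p) =
      c • Ideal.Quotient.mk (extIdeal K J) (MvPolynomial.map (algebraMap A K) p) := by
  show Ideal.Quotient.mk _ (MvPolynomial.algebraTensorAlgEquiv A K (c ⊗ₜ p)) = _
  rw [MvPolynomial.algebraTensorAlgEquiv_tmul]
  rfl

theorem flat_quot_of_flat_tensor [Module.Flat K (K ⊗[A] (MvPolynomial σ A ⧸ J))] :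
    Module.Flat K (MvPolynomial σ K ⧸ extIdeal K J) :=
  Module.Flat.of_linearEquiv (quotBC K J).symm.toLinearEquiv

theorem map_mem_extIdeal_iff [Module.Flat A (MvPolynomial σ A ⧸ J)]
    (h : Function.Injective (algebraMap A K)) {p : MvPolynomial σ A} :
    MvPolynomial.map (algebraMap A K) p ∈ extIdeal K J ↔ p ∈ J := by
  refine ⟨fun hp => ?_, fun hp => Ideal.mem_map_of_mem _ hp⟩
  rw [← Ideal.Quotient.eq_zero_iff_mem] at hp ⊢
  have hinj := Module.Flat.rTensor_preserves_injective_linearMap
    (M := MvPolynomial σ A ⧸ J) (Algebra.linearMap A K) h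
  have h1 : (1 : K) ⊗ₜ[A] Ideal.Quotient.mk J p = 0 := by
    apply (quotBC K J).injective
    rw [quotBC_tmul, one_smul, map_zero, hp]
  have h2 : (1 : A) ⊗ₜ[A] Ideal.Quotient.mk J p = 0 := by
    apply hinj
    rw [map_zero, LinearMap.rTensor_tmul, Algebra.linearMap_apply, map_one, h1]
  have h3 := congrArg (TensorProduct.lid A _) h2
  rw [TensorProduct.lid_tmul, one_smul, LinearEquiv.map_zero] at h3
  exact h3

/-- A non-zero-divisor modulo `J` with flat quotient stays a non-zero-divisor after base change. -/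
theorem mem_extIdeal_of_mul_mem (h : MvPolynomial σ A) (hreg : ∀ p, h * p ∈ J → p ∈ J)
    [Module.Flat A (MvPolynomial σ A ⧸ (J ⊔ Ideal.span {h}))] {q : MvPolynomial σ K}
    (hq : MvPolynomial.map (algebraMap A K) h * q ∈ extIdeal K J) : q ∈ extIdeal K J := by
  let D := MvPolynomial σ A ⧸ J
  let μ : D →ₗ[A] D := LinearMap.mulLeft A (Ideal.Quotient.mk J h)
  let π : D →ₗ[A] MvPolynomial σ A ⧸ (J ⊔ Ideal.span {h}) :=
    (Ideal.Quotient.factorₐ A (I := J) (J := J ⊔ Ideal.span {h}) le_sup_left).toLinearMap
  have hπ : Function.Surjective π :=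
    Ideal.Quotient.factor_surjective (le_sup_left : J ≤ J ⊔ Ideal.span {h})
  have hμ : Function.Injective μ := by
    refine (injective_iff_map_eq_zero μ).2 fun x hx => ?_
    obtain ⟨p, rfl⟩ := Ideal.Quotient.mk_surjective x
    rw [Ideal.Quotient.eq_zero_iff_mem]
    refine hreg p ?_
    rw [← Ideal.Quotient.eq_zero_iff_mem, map_mul]
    exact hx
  have hex : Function.Exact μ π := by
    intro x
    obtain ⟨p, rfl⟩ := Ideal.Quotient.mk_surjective x
    constructor
    · intro hp
      have hp' : p ∈ J ⊔ Ideal.span {h} := Ideal.Quotient.eq_zero_iff_mem.1 hp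
      obtain ⟨a, ha, b, hb, rfl⟩ := Submodule.mem_sup.1 hp'
      obtain ⟨c, rfl⟩ := Ideal.mem_span_singleton'.1 hb
      refine ⟨Ideal.Quotient.mk J c, ?_⟩
      show Ideal.Quotient.mk J h * _ = _
      rw [map_add, Ideal.Quotient.eq_zero_iff_mem.2 ha, zero_add, map_mul, mul_comm]
    · rintro ⟨y, hy⟩
      obtain ⟨c, rfl⟩ := Ideal.Quotient.mk_surjective y
      rw [← hy]
      show Ideal.Quotient.mk (J ⊔ Ideal.span {h}) (h * c) = 0
      exact Ideal.Quotient.eq_zero_iff_mem.2
        (Ideal.mem_sup_right (Ideal.mul_mem_right _ _ (Ideal.mem_span_singleton_self h)))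
  have hinj := LinearMap.lTensor_injective_of_exact_of_flat π hπ μ hμ hex K
  have key : ∀ x : K ⊗[A] D, quotBC K J (μ.lTensor K x) =
      Ideal.Quotient.mk (extIdeal K J) (MvPolynomial.map (algebraMap A K) h) * quotBC K J x := by
    intro x
    induction x using TensorProduct.induction_on with
    | zero => simp
    | add a b ha hb => rw [map_add, map_add, map_add, ha, hb, mul_add]
    | tmul c y =>
      obtain ⟨p, rfl⟩ := Ideal.Quotient.mk_surjective y
      rw [LinearMap.lTensor_tmul]
      show quotBC K J (c ⊗ₜ (Ideal.Quotient.mk J h * Ideal.Quotient.mk J p)) = _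
      rw [← map_mul (Ideal.Quotient.mk J), quotBC_tmul, quotBC_tmul, map_mul, map_mul, mul_smul_comm]
  obtain ⟨x, hx⟩ := (quotBC K J).surjective (Ideal.Quotient.mk (extIdeal K J) q)
  rw [← Ideal.Quotient.eq_zero_iff_mem, ← hx]
  have h0 : μ.lTensor K x = 0 := (quotBC K J).injective (by
    rw [key, hx, ← map_mul, Ideal.Quotient.eq_zero_iff_mem.2 hq, map_zero])
  rw [hinj (h0.trans (map_zero _).symm), map_zero]

/-- Flatness after inverting `c` passes to every base in which `c` is invertible. -/
theorem flat_tensor_of_isUnit {A : Type u} [CommRing A] {K : Type u} [CommRing K] [Algebra A K]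
    {D : Type u} [AddCommGroup D] [Module A D] (c : A) (hc : IsUnit (algebraMap A K c))
    (h : Module.Flat (Localization.Away c) (Localization.Away c ⊗[A] D)) :
    Module.Flat K (K ⊗[A] D) := by
  letI : Algebra (Localization.Away c) K :=
    (IsLocalization.Away.lift (S := Localization.Away c) c hc).toAlgebra
  haveI : IsScalarTower A (Localization.Away c) K := IsScalarTower.of_algebraMap_eq fun x =>
    (IsLocalization.Away.lift_eq c hc x).symm
  exact Module.Flat.of_linearEquiv
    (TensorProduct.AlgebraTensorModule.cancelBaseChange A (Localization.Away c) K K D).symm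

end Groth.Agent.FlatMorGeomIrr
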