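import Groth.Agent.FlatMorGeomIrr.Affine
import Groth.Agent.FlatMorGeneric.Dense
import Groth.Agent.FlatMorGeneric.Meet

/-! Geometric irreducibility of fibres near the generic point. -/

universe u

open AlgebraicGeometry CategoryTheory Limits

namespace Groth.Agent.FlatMorGeomIrr

set_option backward.isDefEq.respectTransparency false

theorem dense_preimage_open {X Y : Scheme.{u}} (f : X ⟶ Y) (y : Y) {Ω : Type u} [Field Ω]
    (φ : Y.residueField y ⟶ CommRingCat.of Ω) (W : X.Opens)
    (h : f ⁻¹' {y} ⊆ closure ((W : Set X) ∩ f ⁻¹' {y})) :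
    Dense (pullback.fst f (Spec.map φ ≫ Y.fromSpecResidueField y) ⁻¹' (W : Set X)) := by
  let s := Spec.map φ ≫ Y.fromSpecResidueField y
  let q : pullback f s ⟶ f.fiber y :=
    pullback.lift (pullback.fst f s) (pullback.snd f s ≫ Spec.map φ) (by
      rw [pullback.condition, Category.assoc])
  have hq : IsPullback q (pullback.snd f s) (f.fiberToSpecResidueField y) (Spec.map φ) := by
    refine IsPullback.of_right ?_ (pullback.lift_snd _ _ _) (IsPullback.of_hasPullback f (Y.fromSpecResidueField y))
    rw [pullback.lift_fst]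
    exact IsPullback.of_hasPullback f s
  haveI : UniversallyOpen q := MorphismProperty.of_isPullback (P := @UniversallyOpen) hq.flip
    (universallyOpen_of_field (k := Y.residueField y) (Spec.map φ))
  have hfst : q ≫ f.fiberι y = pullback.fst f s := pullback.lift_fst _ _ _
  have hd : Dense (f.fiberι y ⁻¹' (W : Set X)) := by
    intro x
    have hx : f (f.fiberι y x) = y := (f.range_fiberι y).le ⟨x, rfl⟩
    rw [(f.fiberι y).isEmbedding.isInducing.closure_eq_preimage_closure_image, Set.mem_preimage,
      Set.image_preimage_eq_inter_range, f.range_fiberι]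
    exact h hx
  rw [← hfst]
  exact hd.preimage q.isOpenMap

theorem irreducibleSpace_pullback_of_open {X Y : Scheme.{u}} (f : X ⟶ Y) {U : Scheme.{u}} (j : U ⟶ X)
    [IsOpenImmersion j] {S : Scheme.{u}} (s : S ⟶ Y)
    (hd : Dense (pullback.fst f s ⁻¹' Set.range j))
    [IrreducibleSpace ↥(pullback (j ≫ f) s)] : IrreducibleSpace ↥(pullback f s) := by
  let j' : pullback (j ≫ f) s ⟶ pullback f s :=
    pullback.lift (pullback.fst _ _ ≫ j) (pullback.snd _ _) (by rw [Category.assoc, pullback.condition])
  have hsq : IsPullback j' (pullback.fst (j ≫ f) s) (pullback.fst f s) j := by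
    refine IsPullback.of_right ?_ (pullback.lift_fst _ _ _) (IsPullback.of_hasPullback f s).flip
    rw [pullback.lift_snd]
    exact (IsPullback.of_hasPullback (j ≫ f) s).flip
  have hr : Set.range j' = pullback.fst f s ⁻¹' Set.range j := by
    rw [← hsq.isoPullback_hom_fst, Scheme.Hom.comp_base, TopCat.coe_comp, Set.range_comp,
      Set.range_eq_univ.2 (show Function.Surjective hsq.isoPullback.hom from
        hsq.isoPullback.hom.homeomorph.surjective), Set.image_univ,
      Scheme.Pullback.range_fst]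
  have hirr : IsIrreducible (Set.range j') := by
    rw [← Set.image_univ]
    exact (IrreducibleSpace.isIrreducible_univ _).image _ j'.continuous.continuousOn
  rw [hr] at hirr
  refine (irreducibleSpace_def _).2 ?_
  rw [Set.top_eq_univ, ← hd.closure_eq]
  exact hirr.closure

theorem irreducibleSpace_pullback_open {X Y : Scheme.{u}} (f : X ⟶ Y) {U : Scheme.{u}} (j : U ⟶ X)
    [IsOpenImmersion j] {S : Scheme.{u}} (s : S ⟶ Y) [IrreducibleSpace ↥(pullback f s)]
    [Nonempty ↥(pullback (j ≫ f) s)] : IrreducibleSpace ↥(pullback (j ≫ f) s) := by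
  let j' : pullback (j ≫ f) s ⟶ pullback f s :=
    pullback.lift (pullback.fst _ _ ≫ j) (pullback.snd _ _) (by rw [Category.assoc, pullback.condition])
  have hsq : IsPullback j' (pullback.fst (j ≫ f) s) (pullback.fst f s) j := by
    refine IsPullback.of_right ?_ (pullback.lift_fst _ _ _) (IsPullback.of_hasPullback f s).flip
    rw [pullback.lift_snd]
    exact (IsPullback.of_hasPullback (j ≫ f) s).flip
  haveI : IsOpenImmersion j' := MorphismProperty.of_isPullback (P := @IsOpenImmersion) hsq.flip inferInstance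
  exact j'.isOpenEmbedding.irreducibleSpace

theorem exists_algClosed_factor {Y : Scheme.{u}} (y : Y) :
    ∃ (Ω : Type u) (_ : Field Ω) (_ : IsAlgClosed Ω) (ψ : Y.residueField y ⟶ CommRingCat.of Ω)
      (z : Spec (CommRingCat.of Ω)), (Spec.map ψ ≫ Y.fromSpecResidueField y) z = y := by
  obtain ⟨Ω, _, _, s, z, hs⟩ := exists_algClosed_point y
  obtain ⟨⟨y', ψ⟩, rfl⟩ := (Scheme.SpecToEquivOfField Ω Y).symm.surjective s
  have hy' : y' = y := hs ▸ (Scheme.fromSpecResidueField_apply y' _).symm
  subst hy'
  exact ⟨Ω, inferInstance, inferInstance, ψ, z, hs⟩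

/-- Over an affine integral base, from an affine open dense in the generic fibre. -/
theorem exists_nhd_of_chart {A B : Type u} [CommRing A] [IsDomain A] [CommRing B] [Algebra A B]
    [Algebra.FiniteType A B] {X : Scheme.{u}}
    (f : X ⟶ Spec (CommRingCat.of A)) [LocallyOfFiniteType f] [QuasiCompact f]
    (j : Spec (CommRingCat.of B) ⟶ X) [IsOpenImmersion j]
    (hj : j ≫ f = Spec.map (CommRingCat.ofHom (algebraMap A B)))
    (η : Spec (CommRingCat.of A)) (hη : η.asIdeal = ⊥)
    (hW : f ⁻¹' {η} ⊆ closure ((j.opensRange : Set X) ∩ f ⁻¹' {η})) (hne : ∃ w, f (j w) = η)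
    (h : GeometricallyIrreducible (f.fiberToSpecResidueField η)) :
    ∃ V : (Spec (CommRingCat.of A)).Opens, η ∈ V ∧
      ∀ y ∈ V, GeometricallyIrreducible (f.fiberToSpecResidueField y) := by
  haveI : IrreducibleSpace ↥(Spec (CommRingCat.of A)) :=
    inferInstanceAs (IrreducibleSpace (PrimeSpectrum A))
  have hgp : genericPoint ↥(Spec (CommRingCat.of A)) = η := by
    refine (genericPoint_spec _).eq ?_
    rw [show η = (⟨⊥, Ideal.isPrime_bot⟩ : PrimeSpectrum A) from PrimeSpectrum.ext hη]
    refine isGenericPoint_iff_specializes.2 fun z => iff_of_true ?_ trivial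
    exact (PrimeSpectrum.le_iff_specializes _ _).1 bot_le
  obtain ⟨V₁, hV₁, hd⟩ := FlatMorGeneric.exists_opens_forall_fibre_subset_closure f j.opensRange
    (by rw [hgp]; exact hW)
  have hgen : GeometricallyIrreducible ((j ≫ f).fiberToSpecResidueField η) := by
    obtain ⟨Ω, _, _, s, z, hs⟩ := exists_algClosed_point η
    haveI := (geometricallyIrreducible_fiber_iff_of_isSepClosed f _ s z hs).1 h
    refine (geometricallyIrreducible_fiber_iff_of_isSepClosed (j ≫ f) _ s z hs).2 ?_
    obtain ⟨x, hx⟩ := hne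
    obtain ⟨t, -, -⟩ := Scheme.Pullback.exists_preimage_pullback (f := j ≫ f) (g := s) x z (by
      rw [hs, Scheme.Hom.comp_apply, hx])
    haveI : Nonempty ↥(pullback (j ≫ f) s) := ⟨t⟩
    exact irreducibleSpace_pullback_open f j s
  rw [hj] at hgen
  obtain ⟨a, ha, H⟩ := exists_forall_geometricallyIrreducible_affine η hη hgen
  refine ⟨V₁ ⊓ PrimeSpectrum.basicOpen a, ⟨?_, ?_⟩, fun y hy => ?_⟩
  · obtain ⟨w, hw⟩ := hV₁
    rw [← hgp]
    exact (genericPoint_specializes w).mem_open V₁.isOpen hw
  · show a ∉ η.asIdeal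
    rw [hη]
    exact ha
  · have hirr : GeometricallyIrreducible ((j ≫ f).fiberToSpecResidueField y) := by
      rw [hj]; exact H y hy.2
    obtain ⟨Ω, _, _, ψ, z, hs⟩ := exists_algClosed_factor y
    haveI := (geometricallyIrreducible_fiber_iff_of_isSepClosed (j ≫ f) _ _ z hs).1 hirr
    refine (geometricallyIrreducible_fiber_iff_of_isSepClosed f _ _ z hs).2
      (irreducibleSpace_pullback_of_open f j _ ?_)
    exact dense_preimage_open f _ ψ j.opensRange (hd y hy.1)

/-- Over an affine integral base. -/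
theorem exists_nhd_of_Spec {A : CommRingCat.{u}} [IsDomain A] {X : Scheme.{u}}
    (f : X ⟶ Spec A) [LocallyOfFiniteType f] [QuasiCompact f] (η : Spec A) (hη : η.asIdeal = ⊥)
    (h : GeometricallyIrreducible (f.fiberToSpecResidueField η)) :
    ∃ V : (Spec A).Opens, η ∈ V ∧ ∀ y ∈ V, GeometricallyIrreducible (f.fiberToSpecResidueField y) := by
  haveI := h
  haveI : IrreducibleSpace ↥(f.fiber η) :=
    GeometricallyIrreducible.irreducibleSpace_of_subsingleton (f := f.fiberToSpecResidueField η)
  obtain ⟨U, hU, hxU, -⟩ := exists_isAffineOpen_mem_and_subset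
    (x := f.fiberι η (genericPoint ↥(f.fiber η))) (U := ⊤) trivial
  let j := hU.fromSpec
  obtain ⟨w, hw⟩ := hU.range_fromSpec.ge hxU
  obtain ⟨φ, hφ⟩ := Spec.map_surjective (j ≫ f)
  algebraize [φ.hom]
  haveI : Algebra.FiniteType A Γ(X, U) := HasRingHomProperty.Spec_iff.1
    (show LocallyOfFiniteType (Spec.map φ) from hφ ▸ inferInstance)
  have hx₀ : f (j w) = η := by rw [hw]; exact (f.range_fiberι η).le ⟨_, rfl⟩
  refine exists_nhd_of_chart f j hφ.symm η hη ?_ ⟨w, hx₀⟩ h
  intro x hx
  obtain ⟨z, rfl⟩ := (f.range_fiberι η).ge hx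
  refine closure_mono ?_
    (specializes_iff_mem_closure.1 ((genericPoint_specializes z).map (f.fiberι η).continuous))
  rintro _ rfl
  exact ⟨⟨w, hw⟩, (f.range_fiberι η).le ⟨_, rfl⟩⟩

/-- Geometric irreducibility of the generic fibre spreads to an open. -/
theorem exists_opens_forall_geometricallyIrreducible {X Y : Scheme.{u}} (f : X ⟶ Y)
    [IrreducibleSpace ↑Y] [LocallyOfFiniteType f] [QuasiCompact f]
    (h : GeometricallyIrreducible (f.fiberToSpecResidueField (genericPoint ↑Y))) :
    ∃ V : Y.Opens, (V : Set ↑Y).Nonempty ∧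
      ∀ y ∈ V, GeometricallyIrreducible (f.fiberToSpecResidueField y) := by
  let i := Y.nilradical.subschemeι
  have hred : IsReduced Y.nilradical.subscheme := by
    rw [← Scheme.IdealSheafData.vanishingIdeal_top]
    exact Props12.isReduced_subscheme_vanishingIdeal _
  have hs : Surjective i := ⟨Set.range_eq_univ.1 (by
    rw [Scheme.IdealSheafData.range_subschemeι, Scheme.support_nilradical]; rfl)⟩
  have hio := FlatMorThick.universallyOpen_of_thickening i
  obtain ⟨η, hη⟩ := i.surjective (genericPoint ↑Y)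
  have hgen : ∀ z, η ⤳ z := fun z => by
    rw [← i.isClosedEmbedding.isEmbedding.isInducing.specializes_iff, hη]
    exact genericPoint_specializes _
  obtain ⟨U, hU, hηU, -⟩ := exists_isAffineOpen_mem_and_subset
    (X := Y.nilradical.subscheme) (x := η) (U := ⊤) trivial
  let R := Γ(Y.nilradical.subscheme, U)
  let c : Spec R ⟶ Y.nilradical.subscheme := hU.fromSpec
  obtain ⟨η', hη'⟩ := hU.range_fromSpec.ge hηU
  haveI : IrreducibleSpace ↥Y.nilradical.subscheme :=
    (irreducibleSpace_def _).2 (by
      have : closure {η} = Set.univ :=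
        Set.eq_univ_of_forall fun z => specializes_iff_mem_closure.1 (hgen z)
      rw [Set.top_eq_univ, ← this]
      exact isIrreducible_singleton.closure)
  haveI : IsIntegral Y.nilradical.subscheme := isIntegral_of_irreducibleSpace_of_isReduced _
  haveI : Nonempty ↥(Spec R) := ⟨η'⟩
  haveI hint : IsIntegral (Spec R) := isIntegral_of_isOpenImmersion c
  haveI : IsDomain R := (affine_isIntegral_iff R).1 hint
  let f' := pullback.snd f (c ≫ i)
  have hc := IsPullback.of_hasPullback f (c ≫ i)
  haveI : LocallyOfFiniteType f' := MorphismProperty.pullback_snd _ _ inferInstance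
  haveI : QuasiCompact f' := MorphismProperty.pullback_snd _ _ inferInstance
  have h' : GeometricallyIrreducible (f'.fiberToSpecResidueField η') := by
    rw [FlatMor12.fibre_irreducible_iff hc η']
    have : (c ≫ i) η' = genericPoint ↑Y := by rw [Scheme.Hom.comp_apply, hη', hη]
    rwa [this]
  have hη'0 : η'.asIdeal = ⊥ := by
    have hsp : η' ⤳ (⟨⊥, Ideal.isPrime_bot⟩ : PrimeSpectrum R) := by
      rw [← c.isOpenEmbedding.isInducing.specializes_iff, hη']
      exact hgen _
    exact le_bot_iff.1 ((PrimeSpectrum.le_iff_specializes _ _).2 hsp)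
  obtain ⟨V, hVη, hV⟩ := exists_nhd_of_Spec f' η' hη'0 h'
  refine ⟨⟨(c ≫ i) '' (V : Set _), (c ≫ i).isOpenMap _ V.isOpen⟩, ⟨_, η', hVη, rfl⟩, ?_⟩
  rintro _ ⟨y, hy, rfl⟩
  exact (FlatMor12.fibre_irreducible_iff hc y).1 (hV y hy)

end Groth.Agent.FlatMorGeomIrr
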