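import Groth.Statements.S0389
import Groth.Agent.S0389
import Groth.Agent.FlatMorGeomIrr.Poly
import Groth.Agent.FlatMorGeomIrr.Bir
import Groth.Agent.FlatMorGeomIrr.QuotBC

/-! Geometric irreducibility spreads out from the generic fibre (affine case). -/

universe u v

open MvPolynomial
open scoped TensorProduct

namespace Groth.Agent.FlatMorGeomIrr

set_option backward.isDefEq.respectTransparency false

theorem map_aeval_eq {A B : Type*} [CommRing A] [CommRing B] (φ : A →+* B) {σ τ : Type*}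
    (v : τ → MvPolynomial σ A) (q : MvPolynomial τ A) :
    MvPolynomial.map φ (aeval v q) = aeval (fun j => MvPolynomial.map φ (v j)) (MvPolynomial.map φ q) := by
  induction q using MvPolynomial.induction_on with
  | C a => simp
  | add p q hp hq => simp only [map_add, hp, hq]
  | mul_X p j hp => simp only [map_mul, hp, aeval_X, map_X]

theorem extIdeal_extIdeal {A : Type*} [CommRing A] {σ : Type*} (B C : Type*) [CommRing B]
    [CommRing C] [Algebra A B] [Algebra B C] [Algebra A C] [IsScalarTower A B C]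
    (J : Ideal (MvPolynomial σ A)) : extIdeal C (extIdeal B J) = extIdeal C J := by
  unfold extIdeal
  rw [Ideal.map_map]
  congr 1
  refine RingHom.ext fun p => ?_
  show MvPolynomial.map _ (MvPolynomial.map _ p) = _
  rw [MvPolynomial.map_map, ← IsScalarTower.algebraMap_eq]

theorem extIdeal_span_singleton {A : Type*} [CommRing A] {σ : Type*} (B : Type*) [CommRing B]
    [Algebra A B] (f : MvPolynomial σ A) :
    extIdeal B (Ideal.span {f}) = Ideal.span {MvPolynomial.map (algebraMap A B) f} := by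
  unfold extIdeal
  rw [Ideal.map_span, Set.image_singleton]

section Abstract

/-- Abstract primality criterion: a birational pair with a hypersurface domain. -/
theorem isPrime_of_birational {R S K : Type*} [CommRing R] [CommRing S] [CommRing K] [IsDomain K]
    (φ : R →+* S) (π : R →+* K) (Φ : S →+* K) (J : Ideal S) (F G : R) (hπ : ∀ q, π q = 0 → F ∣ q)
    (hF : φ F ∈ J) (hΦ : ∀ q, Φ (φ q) = π q) (hΦJ : ∀ q ∈ J, Φ q = 0)
    (hkey : ∀ q : S, ∃ (N : ℕ) (s : R), φ G ^ N * q - φ s ∈ J)
    (hreg : ∀ q, φ G * q ∈ J → q ∈ J) : J.IsPrime := by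
  have hcancel : ∀ (n : ℕ) (q : S), φ G ^ n * q ∈ J → q ∈ J := by
    intro n
    induction n with
    | zero => intro q hq; simpa using hq
    | succ n ih =>
      intro q hq
      refine ih q (hreg _ ?_)
      rwa [← mul_assoc, ← pow_succ']
  have hfin : ∀ {n : ℕ} {q : S} {t : R}, φ G ^ n * q - φ t ∈ J → π t = 0 → q ∈ J := by
    intro n q t hq ht
    obtain ⟨c, rfl⟩ := hπ t ht
    refine hcancel n q ?_
    have := add_mem hq (Ideal.mul_mem_right (φ c) _ hF)
    convert this using 1
    rw [map_mul]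
    ring
  refine ⟨fun htop => ?_, fun {a b} hab => ?_⟩
  · have := hΦJ 1 (htop ▸ Submodule.mem_top)
    simp at this
  obtain ⟨N, s, hs⟩ := hkey a
  obtain ⟨N', s', hs'⟩ := hkey b
  have hss : φ (s * s') ∈ J := by
    have := sub_mem (Ideal.mul_mem_left _ (φ G ^ (N + N')) hab)
      (add_mem (Ideal.mul_mem_left _ (φ G ^ N' * b) hs) (Ideal.mul_mem_left _ (φ s) hs'))
    convert this using 1
    rw [map_mul]
    ring
  have h0 : π s * π s' = 0 := by rw [← map_mul, ← hΦ]; exact hΦJ _ hss
  rcases mul_eq_zero.1 h0 with h | h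
  · exact Or.inl (hfin hs h)
  · exact Or.inr (hfin hs' h)

/-- Rational identities in one field specialise to another. -/
theorem aeval_div_eq {A : Type*} [CommRing A] {R L K : Type*} [CommRing R] [Algebra A R]
    [CommRing L] [IsDomain L] [Algebra A L] [Field K] [Algebra A K] (e : R →ₐ[A] L) (y : R →ₐ[A] K)
    (f g : R) (he : ∀ q, e q = 0 → f ∣ q) (hy : y f = 0) (hg : y g ≠ 0) {σ : Type*} (rr : σ → R)
    (x : σ → L) (hx : ∀ i, e g * x i = e (rr i)) (p : MvPolynomial σ A) (z : R)
    (h : aeval x p = e z) : aeval (fun i => y (rr i) / y g) p = y z := by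
  have key : ∀ p : MvPolynomial σ A, ∃ (N : ℕ) (z : R), e g ^ N * aeval x p = e z ∧
      y g ^ N * aeval (fun i => y (rr i) / y g) p = y z := by
    intro p
    induction p using MvPolynomial.induction_on with
    | C a => exact ⟨0, algebraMap A R a, by simp, by simp⟩
    | add p q hp hq =>
      obtain ⟨N, z, h1, h2⟩ := hp
      obtain ⟨N', z', h1', h2'⟩ := hq
      refine ⟨N + N', g ^ N' * z + g ^ N * z', ?_, ?_⟩
      · simp only [map_add, map_mul, map_pow, ← h1, ← h1']; ring
      · simp only [map_add, map_mul, map_pow, ← h2, ← h2']; ring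
    | mul_X p i hp =>
      obtain ⟨N, z, h1, h2⟩ := hp
      refine ⟨N + 1, z * rr i, ?_, ?_⟩
      · rw [map_mul, aeval_X, map_mul, ← h1, ← hx]; ring
      · have h3 : y g * (y (rr i) / y g) = y (rr i) := mul_div_cancel₀ _ hg
        rw [map_mul, aeval_X, map_mul, ← h2, ← h3]
        simp only [h3]
        field_simp
        ring
  obtain ⟨N, z', h1, h2⟩ := key p
  have h0 : e (g ^ N * z - z') = 0 := by rw [map_sub, map_mul, map_pow, ← h, h1, sub_self]
  obtain ⟨c, hc⟩ := he _ h0
  have h4 := congrArg y hc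
  rw [map_sub, map_mul, map_pow, map_mul, hy, zero_mul, sub_eq_zero, ← h2] at h4
  exact (mul_left_cancel₀ (pow_ne_zero N hg) h4).symm

end Abstract

section Core

variable {A : Type u} [CommRing A] {m : ℕ} {σ : Type} (f g : MvPolynomial (Fin m) A)
  (v : Fin m → MvPolynomial σ A) (r : σ → MvPolynomial (Fin m) A) (J : Ideal (MvPolynomial σ A))

/-- The rational inverse `x = r / g` is a two-sided inverse wherever it makes sense. -/
def IsInverse : Prop :=
  ∀ (K : Type u) [Field K] [Algebra A K] (y : Fin m → K), aeval y f = 0 → aeval y g ≠ 0 →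
    (∀ p ∈ J, aeval (fun i => aeval y (r i) / aeval y g) p = 0) ∧
      ∀ j, aeval (fun i => aeval y (r i) / aeval y g) (v j) = y j

variable {f g v r J}

theorem exists_pow_mul_sub_mem {κ : Type*} [CommRing κ] {τ σ : Type*} (J : Ideal (MvPolynomial σ κ))
    (V : τ → MvPolynomial σ κ) (G : MvPolynomial τ κ) (R : σ → MvPolynomial τ κ)
    (h : ∀ i, aeval V G * X i - aeval V (R i) ∈ J) (q : MvPolynomial σ κ) :
    ∃ (N : ℕ) (s : MvPolynomial τ κ), aeval V G ^ N * q - aeval V s ∈ J := by
  induction q using MvPolynomial.induction_on with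
  | C a => exact ⟨0, MvPolynomial.C a, by simp⟩
  | add p q hp hq =>
    obtain ⟨N, s, hs⟩ := hp
    obtain ⟨N', s', hs'⟩ := hq
    refine ⟨N + N', G ^ N' * s + G ^ N * s', ?_⟩
    have := add_mem (Ideal.mul_mem_left _ (aeval V G ^ N') hs)
      (Ideal.mul_mem_left _ (aeval V G ^ N) hs')
    convert this using 1
    simp only [map_add, map_mul, map_pow]
    ring
  | mul_X p i hp =>
    obtain ⟨N, s, hs⟩ := hp
    refine ⟨N + 1, s * R i, ?_⟩
    have := add_mem (Ideal.mul_mem_left _ (aeval V G * X i) hs) (Ideal.mul_mem_left _ (aeval V s) (h i))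
    convert this using 1
    rw [map_mul]
    ring

theorem exists_toField {κ : Type u} [Field κ] {τ : Type} (F : MvPolynomial τ κ)
    (hF : Irreducible F) :
    ∃ (K : Type u) (_ : Field K) (_ : Algebra κ K) (π : MvPolynomial τ κ →ₐ[κ] K),
      ∀ q, π q = 0 ↔ F ∣ q := by
  haveI : (Ideal.span {F}).IsPrime :=
    (Ideal.span_singleton_prime hF.ne_zero).2 (UniqueFactorizationMonoid.irreducible_iff_prime.1 hF)
  refine ⟨FractionRing (MvPolynomial τ κ ⧸ Ideal.span {F}), inferInstance, inferInstance,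
    (IsScalarTower.toAlgHom κ (MvPolynomial τ κ ⧸ Ideal.span {F})
      (FractionRing (MvPolynomial τ κ ⧸ Ideal.span {F}))).comp (Ideal.Quotient.mkₐ κ (Ideal.span {F})), fun q => ?_⟩
  exact (map_eq_zero_iff _ (IsFractionRing.injective (MvPolynomial τ κ ⧸ Ideal.span {F})
      (FractionRing (MvPolynomial τ κ ⧸ Ideal.span {F})))).trans
    (Ideal.Quotient.eq_zero_iff_mem.trans Ideal.mem_span_singleton)

theorem isPrime_extIdeal {κ : Type u} [Field κ] [Algebra A κ] (hfv : aeval v f ∈ J)
    (hrel : ∀ i, aeval v g * X i - aeval v (r i) ∈ J) (hinv : IsInverse f g v r J)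
    (hf : Irreducible (MvPolynomial.map (algebraMap A κ) f))
    (hg : ¬ MvPolynomial.map (algebraMap A κ) f ∣ MvPolynomial.map (algebraMap A κ) g)
    (hreg : ∀ q, MvPolynomial.map (algebraMap A κ) (aeval v g) * q ∈ extIdeal κ J →
      q ∈ extIdeal κ J) :
    (extIdeal κ J).IsPrime := by
  obtain ⟨K, _, _, π, hπ⟩ := exists_toField _ hf
  letI : Algebra A K := ((algebraMap κ K).comp (algebraMap A κ)).toAlgebra
  haveI : IsScalarTower A κ K := IsScalarTower.of_algebraMap_eq fun _ => rfl
  let V : Fin m → MvPolynomial σ κ := fun j => MvPolynomial.map (algebraMap A κ) (v j)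
  have hcomm : ∀ q : MvPolynomial (Fin m) A,
      MvPolynomial.map (algebraMap A κ) (aeval v q) = aeval V (MvPolynomial.map (algebraMap A κ) q) :=
    map_aeval_eq _ v
  let y : Fin m → K := fun j => π (X j)
  have hy : ∀ q : MvPolynomial (Fin m) A, aeval y q = π (MvPolynomial.map (algebraMap A κ) q) := by
    intro q
    rw [← aeval_map_algebraMap κ y q]
    exact (AlgHom.congr_fun (aeval_unique π) _).symm
  obtain ⟨hJ, hv⟩ := hinv K y (by rw [hy, hπ]) (by rw [hy, Ne, hπ]; exact hg)
  let x : σ → K := fun i => aeval y (r i) / aeval y g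
  refine isPrime_of_birational (aeval V).toRingHom π.toRingHom (aeval x).toRingHom (extIdeal κ J)
    (MvPolynomial.map (algebraMap A κ) f) (MvPolynomial.map (algebraMap A κ) g)
    (fun q h => (hπ q).1 h) ?_ (fun q => ?_) (fun q hq => ?_) (fun q => ?_) (fun q hq => ?_)
  · show aeval V _ ∈ _
    rw [← hcomm]
    exact Ideal.mem_map_of_mem _ hfv
  · refine AlgHom.congr_fun (φ₁ := (aeval x).comp (aeval V)) (MvPolynomial.algHom_ext fun j => ?_) q
    show aeval x (aeval V (X j)) = π (X j)
    rw [aeval_X, aeval_map_algebraMap]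
    exact hv j
  · refine (Ideal.map_le_iff_le_comap (K := RingHom.ker (aeval x).toRingHom)).2 (fun p hp => ?_) hq
    show aeval x (MvPolynomial.map (algebraMap A κ) p) = 0
    rw [aeval_map_algebraMap]
    exact hJ p hp
  · refine exists_pow_mul_sub_mem _ V _ (fun i => MvPolynomial.map (algebraMap A κ) (r i)) (fun i => ?_) q
    rw [← hcomm, ← hcomm]
    have := Ideal.mem_map_of_mem (MvPolynomial.map (algebraMap A κ)) (hrel i)
    rwa [map_sub, map_mul, map_X] at this
  · refine hreg q ?_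
    rw [hcomm]
    exact hq

theorem isInverse_of_birational {Ω : Type v} [Field Ω] [Algebra A Ω]
    (hι : Function.Injective (algebraMap A Ω)) [Module.Flat A (MvPolynomial (Fin m) A ⧸ Ideal.span {f})]
    (P : Ideal (MvPolynomial σ Ω)) [P.IsPrime] (hJ : extIdeal Ω J ≤ P)
    (hrel : ∀ i, MvPolynomial.map (algebraMap A Ω) (aeval v g * X i - aeval v (r i)) ∈ P)
    (hdvd : ∀ q, aeval (fun j => MvPolynomial.map (algebraMap A Ω) (v j)) q ∈ P →
      MvPolynomial.map (algebraMap A Ω) f ∣ q) :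
    IsInverse f g v r J := by
  intro K _ _ y hy hgy
  let L := MvPolynomial σ Ω ⧸ P
  let can : MvPolynomial σ A →ₐ[A] L :=
    ((Ideal.Quotient.mkₐ Ω P).restrictScalars A).comp (MvPolynomial.mapAlgHom (Algebra.ofId A Ω))
  have hcan : ∀ p, can p = 0 ↔ MvPolynomial.map (algebraMap A Ω) p ∈ P := fun p =>
    Ideal.Quotient.eq_zero_iff_mem
  have haev : ∀ p, aeval (fun i => can (X i)) p = can p := fun p =>
    (AlgHom.congr_fun (aeval_unique can) p).symm
  have he : ∀ q, can (aeval v q) = 0 → f ∣ q := fun q hq => by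
    rw [hcan, map_aeval_eq] at hq
    refine Ideal.mem_span_singleton.1 ((map_mem_extIdeal_iff Ω (Ideal.span {f}) hι).1 ?_)
    rw [extIdeal_span_singleton]
    exact Ideal.mem_span_singleton.2 (hdvd _ hq)
  have hx : ∀ i, can (aeval v g) * can (X i) = can (aeval v (r i)) := fun i => by
    rw [← sub_eq_zero, ← map_mul, ← map_sub, hcan]
    exact hrel i
  have H := aeval_div_eq (can.comp (aeval v)) (aeval y) f g he hy hgy r (fun i => can (X i)) hx
  refine ⟨fun p hp => ?_, fun j => ?_⟩
  · rw [H p 0 (by rw [haev, map_zero, hcan]; exact hJ (Ideal.mem_map_of_mem _ hp)), map_zero]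
  · rw [H (v j) (X j) (by rw [haev]; exact (congrArg can (aeval_X v j)).symm), aeval_X]

theorem isPrime_of_flat {Ω κ : Type u} [Field Ω] [Field κ] [Algebra A Ω] [Algebra A κ]
    (hι : Function.Injective (algebraMap A Ω)) (P : Ideal (MvPolynomial σ Ω)) [P.IsPrime]
    (hJ : extIdeal Ω J = P) (hfv : aeval v f ∈ J) (hrel : ∀ i, aeval v g * X i - aeval v (r i) ∈ J)
    (hf : Prime (MvPolynomial.map (algebraMap A Ω) f))
    (hfg : ¬ MvPolynomial.map (algebraMap A Ω) f ∣ MvPolynomial.map (algebraMap A Ω) g)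
    (hdvd : ∀ q, aeval (fun j => MvPolynomial.map (algebraMap A Ω) (v j)) q ∈ P →
      MvPolynomial.map (algebraMap A Ω) f ∣ q)
    (hfκ : Irreducible (MvPolynomial.map (algebraMap A κ) f))
    [Module.Flat A (MvPolynomial (Fin m) A ⧸ Ideal.span {f})]
    [Module.Flat A (MvPolynomial (Fin m) A ⧸ (Ideal.span {f} ⊔ Ideal.span {g}))]
    [Module.Flat A (MvPolynomial σ A ⧸ J)]
    [Module.Flat A (MvPolynomial σ A ⧸ (J ⊔ Ideal.span {aeval v g}))] :
    (extIdeal κ J).IsPrime := by
  have hgP : MvPolynomial.map (algebraMap A Ω) (aeval v g) ∉ P := fun h =>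
    hfg (hdvd _ (map_aeval_eq (algebraMap A Ω) v g ▸ h))
  have hregJ : ∀ p, aeval v g * p ∈ J → p ∈ J := by
    intro p hp
    have h1 : MvPolynomial.map (algebraMap A Ω) (aeval v g) * MvPolynomial.map (algebraMap A Ω) p ∈ P := by
      rw [← map_mul, ← hJ]
      exact Ideal.mem_map_of_mem _ hp
    refine (map_mem_extIdeal_iff Ω J hι).1 ?_
    rw [hJ]
    exact ((inferInstance : P.IsPrime).mem_or_mem h1).resolve_left hgP
  have hregf : ∀ p, g * p ∈ Ideal.span {f} → p ∈ Ideal.span {f} := by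
    intro p hp
    have h1 := map_dvd (MvPolynomial.map (algebraMap A Ω)) (Ideal.mem_span_singleton.1 hp)
    rw [map_mul] at h1
    refine (map_mem_extIdeal_iff Ω _ hι).1 ?_
    rw [extIdeal_span_singleton]
    exact Ideal.mem_span_singleton.2 ((hf.dvd_or_dvd h1).resolve_left hfg)
  refine isPrime_extIdeal hfv hrel ?_ hfκ (fun hd => ?_) fun q hq => mem_extIdeal_of_mul_mem κ J _ hregJ hq
  · refine isInverse_of_birational hι P hJ.le (fun i => ?_) hdvd
    rw [← hJ]
    exact Ideal.mem_map_of_mem _ (hrel i)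
  · apply hfκ.not_isUnit
    rw [← Ideal.span_singleton_eq_top, Ideal.eq_top_iff_one, ← extIdeal_span_singleton]
    refine mem_extIdeal_of_mul_mem κ _ g hregf ?_
    rw [mul_one, extIdeal_span_singleton]
    exact Ideal.mem_span_singleton.2 hd

end Core

theorem exists_flat_away {A : Type u} [CommRing A] [IsDomain A] {σ : Type} [Finite σ]
    (J : Ideal (MvPolynomial σ A)) :
    ∃ c : A, c ≠ 0 ∧ ∀ (B : Type u) [CommRing B] [Algebra A B], IsUnit (algebraMap A B c) →
      Module.Flat B (MvPolynomial σ B ⧸ extIdeal B J) := by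
  obtain ⟨c, hc, hfree, -⟩ := S0389.result (R := A) (S := MvPolynomial σ A ⧸ J)
    (M := MvPolynomial σ A ⧸ J)
  refine ⟨c, hc, fun B _ _ hB => ?_⟩
  haveI := flat_tensor_of_isUnit (K := B) (D := MvPolynomial σ A ⧸ J) c hB (Module.Flat.of_free)
  exact flat_quot_of_flat_tensor B J

theorem injective_away_lift {A Ω : Type*} [CommRing A] [CommRing Ω] [Algebra A Ω] (c : A)
    (hι : Function.Injective (algebraMap A Ω)) [Algebra (Localization.Away c) Ω]
    [IsScalarTower A (Localization.Away c) Ω] :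
    Function.Injective (algebraMap (Localization.Away c) Ω) := by
  refine (injective_iff_map_eq_zero _).2 fun z hz => ?_
  obtain ⟨⟨z₀, s⟩, hs⟩ := IsLocalization.surj (Submonoid.powers c) z
  have h1 : algebraMap A Ω z₀ = 0 := by
    rw [IsScalarTower.algebraMap_apply A (Localization.Away c) Ω, ← hs, map_mul, hz, zero_mul]
  rw [hι (h1.trans (map_zero _).symm), map_zero] at hs
  exact (IsUnit.mul_left_eq_zero (IsLocalization.map_units _ s)).1 hs

/-- Stage two: the conclusion on a dense open from birational data over the base. -/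
theorem exists_forall_isPrime_of_data {A : Type u} [CommRing A] [IsDomain A] {Ω : Type u} [Field Ω]
    [IsAlgClosed Ω] [Algebra A Ω] (hι : Function.Injective (algebraMap A Ω)) {m : ℕ} {σ : Type} [Finite σ]
    (f g : MvPolynomial (Fin m) A) (v : Fin m → MvPolynomial σ A) (r : σ → MvPolynomial (Fin m) A)
    (J : Ideal (MvPolynomial σ A)) (P : Ideal (MvPolynomial σ Ω)) [P.IsPrime]
    (hJ : extIdeal Ω J = P) (hfvJ : aeval v f ∈ J) (hrelJ : ∀ i, aeval v g * X i - aeval v (r i) ∈ J)
    (hf : Irreducible (MvPolynomial.map (algebraMap A Ω) f))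
    (hfg : ¬ MvPolynomial.map (algebraMap A Ω) f ∣ MvPolynomial.map (algebraMap A Ω) g)
    (hdvd : ∀ q, aeval (fun j => MvPolynomial.map (algebraMap A Ω) (v j)) q ∈ P →
      MvPolynomial.map (algebraMap A Ω) f ∣ q) :
    ∃ c : A, c ≠ 0 ∧ ∀ (κ : Type u) [Field κ] [Algebra A κ], algebraMap A κ c ≠ 0 →
      (extIdeal κ J).IsPrime := by
  obtain ⟨a, ha, hirr⟩ := exists_forall_irreducible_map (algebraMap A Ω) hι f hf
  have hfp : Prime (MvPolynomial.map (algebraMap A Ω) f) :=
    UniqueFactorizationMonoid.irreducible_iff_prime.1 hf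
  obtain ⟨c₁, hc₁, H₁⟩ := exists_flat_away (Ideal.span {f})
  obtain ⟨c₂, hc₂, H₂⟩ := exists_flat_away (Ideal.span {f} ⊔ Ideal.span {g})
  obtain ⟨c₃, hc₃, H₃⟩ := exists_flat_away J
  obtain ⟨c₄, hc₄, H₄⟩ := exists_flat_away (J ⊔ Ideal.span {aeval v g})
  let c := a * c₁ * c₂ * c₃ * c₄
  have hc : c ≠ 0 := by simp [c, ha, hc₁, hc₂, hc₃, hc₄]
  refine ⟨c, hc, fun κ _ _ hκ => ?_⟩
  let A₁ := Localization.Away c
  have hu : IsUnit (algebraMap A A₁ c) := IsLocalization.Away.algebraMap_isUnit c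
  have hunit : ∀ x, x ∣ c → IsUnit (algebraMap A A₁ x) := fun x hx =>
    isUnit_of_dvd_unit (map_dvd _ hx) hu
  letI : Algebra A₁ Ω :=
    (IsLocalization.Away.lift (S := A₁) c (isUnit_iff_ne_zero.2 ((map_ne_zero_iff _ hι).2 hc))).toAlgebra
  haveI : IsScalarTower A A₁ Ω := IsScalarTower.of_algebraMap_eq fun x =>
    (IsLocalization.Away.lift_eq c _ x).symm
  letI : Algebra A₁ κ := (IsLocalization.Away.lift (S := A₁) c (isUnit_iff_ne_zero.2 hκ)).toAlgebra
  haveI : IsScalarTower A A₁ κ := IsScalarTower.of_algebraMap_eq fun x =>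
    (IsLocalization.Away.lift_eq c _ x).symm
  let μ := fun {τ : Type} (p : MvPolynomial τ A) => MvPolynomial.map (algebraMap A A₁) p
  have hμ : ∀ {τ : Type} (B : Type u) [CommRing B] [Algebra A B] [Algebra A₁ B] [IsScalarTower A A₁ B]
      (p : MvPolynomial τ A),
      MvPolynomial.map (algebraMap A₁ B) (μ p) = MvPolynomial.map (algebraMap A B) p :=
    fun B _ _ _ _ p => by simp only [μ, MvPolynomial.map_map, ← IsScalarTower.algebraMap_eq]
  have hμa : ∀ q : MvPolynomial (Fin m) A, μ (aeval v q) = aeval (fun j => μ (v j)) (μ q) :=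
    map_aeval_eq _ v
  haveI hF₁ : Module.Flat A₁ (MvPolynomial (Fin m) A₁ ⧸ Ideal.span {μ f}) := by
    rw [← extIdeal_span_singleton]
    exact H₁ A₁ (hunit _ ⟨a * c₂ * c₃ * c₄, by simp [c]; ring⟩)
  haveI hF₂ : Module.Flat A₁ (MvPolynomial (Fin m) A₁ ⧸ (Ideal.span {μ f} ⊔ Ideal.span {μ g})) := by
    have := H₂ A₁ (hunit _ ⟨a * c₁ * c₃ * c₄, by simp [c]; ring⟩)
    rwa [extIdeal, Ideal.map_sup, ← extIdeal, ← extIdeal, extIdeal_span_singleton,
      extIdeal_span_singleton] at this
  haveI hF₃ : Module.Flat A₁ (MvPolynomial σ A₁ ⧸ extIdeal A₁ J) :=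
    H₃ A₁ (hunit _ ⟨a * c₁ * c₂ * c₄, by simp [c]; ring⟩)
  haveI hF₄ : Module.Flat A₁ (MvPolynomial σ A₁ ⧸
      (extIdeal A₁ J ⊔ Ideal.span {aeval (fun j => μ (v j)) (μ g)})) := by
    rw [← hμa]
    have := H₄ A₁ (hunit _ ⟨a * c₁ * c₂ * c₃, by simp [c]; ring⟩)
    rwa [extIdeal, Ideal.map_sup, ← extIdeal, ← extIdeal, extIdeal_span_singleton] at this
  rw [← extIdeal_extIdeal A₁ κ J]
  refine isPrime_of_flat (f := μ f) (g := μ g) (v := fun j => μ (v j)) (r := fun i => μ (r i))
    (injective_away_lift c hι) P ((extIdeal_extIdeal A₁ Ω J).trans hJ) ?_ (fun i => ?_) ?_ ?_ ?_ ?_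
  · rw [← hμa]
    exact Ideal.mem_map_of_mem _ hfvJ
  · rw [← hμa, ← hμa]
    have h1 := Ideal.mem_map_of_mem (MvPolynomial.map (algebraMap A A₁)) (hrelJ i)
    simpa [μ] using h1
  · rw [hμ Ω]; exact hfp
  · rw [hμ Ω, hμ Ω]; exact hfg
  · simp only [hμ Ω]; exact hdvd
  · rw [hμ κ]
    exact hirr κ (algebraMap A κ) (fun h => hκ (by simp [c, h]))

/-- A finite type extension inside a field: points of the base lift to points of the extension. -/
theorem exists_forall_lift {A D : Type u} [CommRing A] [IsDomain A] [CommRing D] [IsDomain D]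
    [Algebra A D] [Algebra.FiniteType A D] (h : Function.Injective (algebraMap A D)) :
    ∃ a : A, a ≠ 0 ∧ ∀ (κ : Type u) [Field κ] [IsAlgClosed κ] (ψ : A →+* κ), ψ a ≠ 0 →
      ∃ ψ' : D →+* κ, ψ'.comp (algebraMap A D) = ψ := by
  obtain ⟨a, ha, hfree, -⟩ := S0389.result (R := A) (S := D) (M := D)
  refine ⟨a, ha, fun κ _ _ ψ hψ => ?_⟩
  letI : Algebra A κ := ψ.toAlgebra
  let A₁ := Localization.Away a
  have hne : Nontrivial (A₁ ⊗[A] D) := by
    have h0 : Submonoid.powers (algebraMap A D a) ≤ nonZeroDivisors D :=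
      powers_le_nonZeroDivisors_of_noZeroDivisors ((map_ne_zero_iff _ h).2 ha)
    haveI : IsDomain (Localization.Away (algebraMap A D a)) := IsLocalization.isDomain_localization h0
    have hu : IsUnit (algebraMap A (Localization.Away (algebraMap A D a)) a) := by
      rw [IsScalarTower.algebraMap_apply A D (Localization.Away (algebraMap A D a))]
      exact IsLocalization.Away.algebraMap_isUnit (algebraMap A D a)
    exact (Algebra.TensorProduct.lift
      (IsLocalization.liftAlgHom (M := Submonoid.powers a)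
        (f := Algebra.ofId A (Localization.Away (algebraMap A D a))) (by
          rintro ⟨_, n, rfl⟩
          simpa using hu.pow n) : A₁ →ₐ[A] _)
      (IsScalarTower.toAlgHom A D (Localization.Away (algebraMap A D a)))
      (fun _ _ => Commute.all _ _)).toRingHom.domain_nontrivial
  letI : Algebra A₁ κ :=
    (IsLocalization.Away.lift (S := A₁) a (isUnit_iff_ne_zero.2 (show algebraMap A κ a ≠ 0 from hψ))).toAlgebra
  haveI : IsScalarTower A A₁ κ := IsScalarTower.of_algebraMap_eq fun x =>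
    (IsLocalization.Away.lift_eq a _ x).symm
  haveI := hfree
  haveI : Nontrivial (κ ⊗[A] D) := by
    let b := Module.Free.chooseBasis A₁ (A₁ ⊗[A] D)
    haveI := b.index_nonempty
    haveI : Nontrivial (κ ⊗[A₁] (A₁ ⊗[A] D)) := by
      obtain ⟨i⟩ := b.index_nonempty
      exact ⟨⟨(b.baseChange κ) i, 0, (b.baseChange κ).ne_zero i⟩⟩
    exact (TensorProduct.AlgebraTensorModule.cancelBaseChange A A₁ κ κ D).symm.toEquiv.nontrivial
  obtain ⟨M, hM⟩ := Ideal.exists_maximal (κ ⊗[A] D)
  letI := Ideal.Quotient.field M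
  haveI : Algebra.FiniteType κ ((κ ⊗[A] D) ⧸ M) := inferInstance
  haveI : Module.Finite κ ((κ ⊗[A] D) ⧸ M) := finite_of_finite_type_of_isJacobsonRing κ _
  let e : ((κ ⊗[A] D) ⧸ M) →ₐ[κ] κ := IsAlgClosed.lift
  refine ⟨((e.restrictScalars A).comp (((Ideal.Quotient.mkₐ κ M).restrictScalars A).comp
    Algebra.TensorProduct.includeRight)).toRingHom, ?_⟩
  exact RingHom.ext fun x => AlgHom.commutes ((e.restrictScalars A).comp
    (((Ideal.Quotient.mkₐ κ M).restrictScalars A).comp Algebra.TensorProduct.includeRight)) x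

/-- A finitely generated extension inside `Ω` containing given finitely many elements. -/
theorem exists_fg_extension (A : Type u) {Ω : Type u} [CommRing A] [IsDomain A] [Field Ω] [Algebra A Ω]
    (hι : Function.Injective (algebraMap A Ω)) (S : Set Ω) (hS : S.Finite) :
    ∃ (D : Type u) (_ : CommRing D) (_ : IsDomain D) (_ : Algebra A D) (_ : Algebra D Ω)
      (_ : IsScalarTower A D Ω), Algebra.FiniteType A D ∧ Function.Injective (algebraMap D Ω) ∧
      Function.Injective (algebraMap A D) ∧ S ⊆ Set.range (algebraMap D Ω) :=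
  ⟨Algebra.adjoin A S, inferInstance, inferInstance, inferInstance, inferInstance, inferInstance,
    (Subalgebra.fg_iff_finiteType _).1 (Subalgebra.fg_def.2 ⟨S, hS, rfl⟩), Subtype.val_injective,
    fun _ _ h => hι (congrArg Subtype.val h), fun x hx => ⟨⟨x, Algebra.subset_adjoin hx⟩, rfl⟩⟩

/-- Descend a dense-open statement along a finitely generated extension. -/
theorem exists_forall_descend {A D : Type u} [CommRing A] [IsDomain A] [CommRing D] [IsDomain D]
    [Algebra A D] [Algebra.FiniteType A D] (hAD : Function.Injective (algebraMap A D)) (c₀ : D)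
    (hc₀ : c₀ ≠ 0) (Q : ∀ (κ : Type u) [Field κ] [Algebra A κ], Prop)
    (H : ∀ (κ : Type u) [Field κ] [IsAlgClosed κ] [Algebra A κ] [Algebra D κ] [IsScalarTower A D κ],
      algebraMap D κ c₀ ≠ 0 → Q κ) :
    ∃ a : A, a ≠ 0 ∧ ∀ (κ : Type u) [Field κ] [IsAlgClosed κ] [Algebra A κ],
      algebraMap A κ a ≠ 0 → Q κ := by
  let D₁ := Localization.Away c₀
  haveI : IsDomain D₁ := IsLocalization.isDomain_localization
    (powers_le_nonZeroDivisors_of_noZeroDivisors hc₀)
  haveI : Algebra.FiniteType D D₁ := IsLocalization.finiteType_of_monoid_fg (Submonoid.powers c₀) D₁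
  haveI : Algebra.FiniteType A D₁ := Algebra.FiniteType.trans (S := D) inferInstance inferInstance
  obtain ⟨a, ha, hla⟩ := exists_forall_lift (A := A) (D := D₁) (by
    rw [IsScalarTower.algebraMap_eq A D D₁]
    exact (IsLocalization.injective D₁ (powers_le_nonZeroDivisors_of_noZeroDivisors hc₀)).comp hAD)
  refine ⟨a, ha, fun κ _ _ _ hκ => ?_⟩
  obtain ⟨ψ₁, hψ₁⟩ := hla κ (algebraMap A κ) hκ
  letI : Algebra D κ := (ψ₁.comp (algebraMap D D₁)).toAlgebra
  haveI : IsScalarTower A D κ := IsScalarTower.of_algebraMap_eq' (by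
    show algebraMap A κ = (ψ₁.comp (algebraMap D D₁)).comp (algebraMap A D)
    rw [RingHom.comp_assoc, ← IsScalarTower.algebraMap_eq, hψ₁])
  exact H κ ((IsLocalization.Away.algebraMap_isUnit (S := D₁) c₀).map ψ₁).ne_zero

theorem radical_extIdeal_eq {A D κ : Type*} [CommRing A] [CommRing D] [CommRing κ] [Algebra A D]
    [Algebra D κ] [Algebra A κ] [IsScalarTower A D κ] {σ : Type*} (I : Ideal (MvPolynomial σ A))
    {ι : Type*} (G : ι → MvPolynomial σ D) (hG : ∀ i, G i ∈ (extIdeal D I).radical)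
    (h : (extIdeal κ (extIdeal D I ⊔ Ideal.span (Set.range G))).IsPrime) :
    (extIdeal κ I).radical = extIdeal κ (extIdeal D I ⊔ Ideal.span (Set.range G)) := by
  refine le_antisymm ((Ideal.radical_mono ?_).trans h.radical.le) ?_
  · rw [← extIdeal_extIdeal D κ I]
    exact Ideal.map_mono le_sup_left
  · rw [← extIdeal_extIdeal D κ I]
    refine Ideal.map_le_iff_le_comap.2 (sup_le ?_ (Ideal.span_le.2 ?_))
    · exact Ideal.map_le_iff_le_comap.1 Ideal.le_radical
    · rintro _ ⟨p, rfl⟩
      obtain ⟨n, hn⟩ := hG p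
      exact ⟨n, by rw [← map_pow]; exact Ideal.mem_map_of_mem _ hn⟩

theorem mem_radical_of_map {A D Ω : Type*} [CommRing A] [CommRing D] [CommRing Ω] [Algebra A D]
    [Algebra D Ω] [Algebra A Ω] [IsScalarTower A D Ω] {σ : Type*}
    (hD : Function.Injective (algebraMap D Ω)) (I : Ideal (MvPolynomial σ A)) {ι : Type*}
    (e : ι → MvPolynomial σ A) (he : ∀ i, e i ∈ I) (p : MvPolynomial σ D) (N : ℕ) (s : Finset ι)
    (c : ι → MvPolynomial σ D)
    (h : MvPolynomial.map (algebraMap D Ω) p ^ N =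
      ∑ i ∈ s, MvPolynomial.map (algebraMap D Ω) (c i) * MvPolynomial.map (algebraMap A Ω) (e i)) :
    p ∈ (extIdeal D I).radical := by
  have heq : p ^ N = ∑ i ∈ s, c i * MvPolynomial.map (algebraMap A D) (e i) := by
    apply MvPolynomial.map_injective (algebraMap D Ω) hD
    rw [map_pow, h, map_sum]
    refine Finset.sum_congr rfl fun i _ => ?_
    rw [map_mul, MvPolynomial.map_map, ← IsScalarTower.algebraMap_eq]
  exact ⟨N, heq ▸ Ideal.sum_mem _ fun i _ => Ideal.mul_mem_left _ _ (Ideal.mem_map_of_mem _ (he i))⟩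

/-- Geometric irreducibility of the generic fibre spreads out (affine version). -/
theorem exists_forall_isPrime_radical {A : Type u} [CommRing A] [IsDomain A] {Ω : Type u} [Field Ω]
    [IsAlgClosed Ω] [Algebra A Ω] (hι : Function.Injective (algebraMap A Ω)) {σ : Type} [Finite σ]
    (I : Ideal (MvPolynomial σ A)) (hI : (extIdeal Ω I).radical.IsPrime) :
    ∃ a : A, a ≠ 0 ∧ ∀ (κ : Type u) [Field κ] [IsAlgClosed κ] [Algebra A κ],
      algebraMap A κ a ≠ 0 → (extIdeal κ I).radical.IsPrime := by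
  classical
  haveI := hI
  obtain ⟨d, f, g, v, r, hf, hfg, hfv, hrel, hdvd⟩ := exists_birational (extIdeal Ω I).radical
  obtain ⟨G₀, hG₀⟩ : (extIdeal Ω I).radical.FG := IsNoetherian.noetherian _
  let ι := (↥G₀ ⊕ Unit) ⊕ σ
  let gen : ι → MvPolynomial σ Ω := Sum.elim (Sum.elim Subtype.val fun _ => aeval v f)
    fun i => aeval v g * X i - aeval v (r i)
  have hgen : ∀ i, gen i ∈ (extIdeal Ω I).radical := by
    rintro ((⟨p, hp⟩ | _) | i)
    · exact hG₀ ▸ Ideal.subset_span hp
    · exact hfv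
    · exact hrel i
  have hspan : Ideal.span (Set.range gen) = (extIdeal Ω I).radical := by
    refine le_antisymm (Ideal.span_le.2 (by rintro _ ⟨i, rfl⟩; exact hgen i))
      (hG₀.ge.trans (Ideal.span_mono ?_))
    intro p hp
    exact ⟨.inl (.inl ⟨p, hp⟩), rfl⟩
  have hwit : ∀ i, ∃ (N : ℕ) (c : I →₀ MvPolynomial σ Ω),
      Finsupp.linearCombination (MvPolynomial σ Ω)
        (fun e : I => MvPolynomial.map (algebraMap A Ω) (e : MvPolynomial σ A)) c = gen i ^ N := by
    intro i
    obtain ⟨N, hN⟩ := hgen i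
    refine ⟨N, (Finsupp.mem_span_range_iff_exists_finsupp.1 ?_).imp fun c hc => hc⟩
    change _ ∈ Ideal.map _ I at hN
    rw [Ideal.map, Set.image_eq_range] at hN
    exact hN
  choose N c hc using hwit
  haveI := Fintype.ofFinite σ
  let co := fun {τ : Type} (p : MvPolynomial τ Ω) => (p.coeffs : Set Ω)
  let S : Set Ω := co f ∪ co g ∪ (⋃ j, co (v j)) ∪ (⋃ i, co (r i)) ∪ (⋃ i : ι, co (gen i))
    ∪ ⋃ i : ι, ⋃ e ∈ (c i).support, co (c i e)
  have hS : S.Finite := by
    refine ((((?_ : Set.Finite _).union ?_).union ?_).union ?_).union ?_ |>.union ?_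
    all_goals first
      | exact Finset.finite_toSet _
      | exact Set.finite_iUnion fun _ => Finset.finite_toSet _
      | exact Set.finite_iUnion fun _ => Set.Finite.biUnion (Finset.finite_toSet _) fun _ _ => Finset.finite_toSet _
  obtain ⟨D, _, _, _, _, _, hft, hD, hAD, hSD⟩ := exists_fg_extension A hι S hS
  haveI := hft
  have hlift : ∀ {τ : Type} (p : MvPolynomial τ Ω), co p ⊆ S →
      ∃ q : MvPolynomial τ D, MvPolynomial.map (algebraMap D Ω) q = p := fun p hp =>
    mem_range_map_iff_coeffs_subset.2 fun x hx => hSD (hp hx)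
  obtain ⟨f', hf'⟩ := hlift f (fun x hx => by simp [S, co] at hx ⊢; tauto)
  obtain ⟨g', hg'⟩ := hlift g (fun x hx => by simp [S, co] at hx ⊢; tauto)
  choose v' hv' using fun j => hlift (v j) (fun x hx => by
    simp only [S, Set.mem_union, Set.mem_iUnion]; exact .inl (.inl (.inl (.inr ⟨j, hx⟩))))
  choose r' hr' using fun i => hlift (r i) (fun x hx => by
    simp only [S, Set.mem_union, Set.mem_iUnion]; exact .inl (.inl (.inr ⟨i, hx⟩)))
  choose G' hG' using fun i : ι => hlift (gen i) (fun x hx => by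
    simp only [S, Set.mem_union, Set.mem_iUnion]; exact .inl (.inr ⟨i, hx⟩))
  have hc' : ∀ i : ι, ∀ e : I, ∃ q : MvPolynomial σ D,
      MvPolynomial.map (algebraMap D Ω) q = c i e := by
    intro i e
    by_cases he : e ∈ (c i).support
    · exact hlift _ (fun x hx => by
        simp only [S, Set.mem_union, Set.mem_iUnion]; exact .inr ⟨i, e, he, hx⟩)
    · exact ⟨0, by rw [map_zero, Finsupp.notMem_support_iff.1 he]⟩
  choose c' hc' using hc'
  have hrad : ∀ i, G' i ∈ (extIdeal D I).radical := fun i =>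
    mem_radical_of_map hD I (fun e : I => (e : MvPolynomial σ A)) (fun e => e.2) _ (N i)
      (c i).support (c' i) (by
        rw [hG', ← hc i, Finsupp.linearCombination_apply, Finsupp.sum]
        simp only [hc', smul_eq_mul])
  have hJΩ : extIdeal Ω (extIdeal D I ⊔ Ideal.span (Set.range G')) = (extIdeal Ω I).radical := by
    show Ideal.map _ (_ ⊔ _) = _
    rw [Ideal.map_sup, Ideal.map_span, ← Set.range_comp,
      show (MvPolynomial.map (algebraMap D Ω)) ∘ G' = gen from funext hG']
    show extIdeal Ω (extIdeal D I) ⊔ _ = _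
    rw [extIdeal_extIdeal, hspan, sup_eq_right]
    exact Ideal.le_radical
  have hav : ∀ q, MvPolynomial.map (algebraMap D Ω) (aeval v' q) =
      aeval v (MvPolynomial.map (algebraMap D Ω) q) := fun q => by
    rw [map_aeval_eq]; simp only [hv']
  have hmemJ : ∀ {q : MvPolynomial σ D} (i : ι), MvPolynomial.map (algebraMap D Ω) q = gen i →
      q ∈ extIdeal D I ⊔ Ideal.span (Set.range G') := by
    intro q i hq
    rw [MvPolynomial.map_injective _ hD (hq.trans (hG' i).symm)]
    exact Ideal.mem_sup_right (Ideal.subset_span ⟨_, rfl⟩)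
  obtain ⟨c₀, hc₀, H⟩ := exists_forall_isPrime_of_data (A := D) (Ω := Ω) hD f' g' v' r' _ _ hJΩ
    (hmemJ (.inl (.inr ())) (by rw [hav, hf']; rfl))
    (fun i => hmemJ (.inr i) (by rw [map_sub, map_mul, map_X, hav, hav, hg', hr']; rfl))
    (by rw [hf']; exact hf) (by rw [hf', hg']; exact hfg)
    (fun q hq => by rw [hf']; exact hdvd q (by simpa only [hv'] using hq))
  exact exists_forall_descend hAD c₀ hc₀ (fun κ _ _ => (extIdeal κ I).radical.IsPrime)
    fun κ _ _ _ _ _ hκ => radical_extIdeal_eq (κ := κ) I G' hrad (H κ hκ) ▸ H κ hκ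

end Groth.Agent.FlatMorGeomIrr
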